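import Mathlib
import Cfsg.Agent.H942.CB.Chk
import Cfsg.Agent.H943.LatFix
import Cfsg.Agent.ChevalleyStructure.JacAll

/-!
# `L₂(81)` in `E₈(3)`: the regular cases, interface
-/

set_option autoImplicit false
set_option linter.unusedSectionVars false

namespace Cfsg.Agent.H288.E8L

open CoxeterSystem Cfsg Cfsg.Lie Cfsg.Lie.ChevalleyDatum
open Cfsg.Agent.ChevalleyStructure Cfsg.Agent.ChevalleyStructure.Elts Cfsg.Agent.ChevalleyStructure.CoxeterGeom
  Cfsg.Agent.ChevalleyStructure.CoxeterGeomTypes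
open Cfsg.Agent.Tits.Roots Cfsg.Agent.Tits.Core Cfsg.Agent.Nodes Cfsg.Agent.Nodes.Reps Cfsg.Agent.Nodes.BNOf
  Cfsg.Agent.Nodes.RGDChev
open Cfsg.Agent.GpExc.Field Cfsg.Agent.BpExc.TowChev Cfsg.Agent.H129.TorusChar
open Cfsg.Agent.KFacts.RgdChevCoord
open Cfsg.Agent.H942.E8Tab Cfsg.Agent.H942.E8Alc Cfsg.Agent.H942.CB Cfsg.Agent.H944.Tab Cfsg.Agent.H944.Kac

/-- the root lattice -/
abbrev Q8 : Type := Fin 8 → ℤ

/-- the algebraic closure -/
abbrev K8 : Type := AlgebraicClosure (ZMod 3)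

/-- `E₈(3)` -/
abbrev G8 : Type := ↥(chevE8.group (ZMod 3))

/-- the algebraic group -/
abbrev GK : Type := ↥(chevE8.group K8)

/-- the embedding -/
noncomputable def emb8 : G8 →* GK := emb e8T.inList (algebraMap (ZMod 3) K8)

/-- the entrywise Frobenius map -/
noncomputable def frb8 : GK →* GK := emb e8T.inList (frobenius K8 3)

/-- the matrix of an element -/
noncomputable abbrev mx (g : GK) : Matrix chevE8.Idx chevE8.Idx K8 := ((g : GL chevE8.Idx K8) : Matrix chevE8.Idx chevE8.Idx K8)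

/-- the weight of a coordinate -/
def wt : chevE8.Idx → Q8 := Sum.elim (fun _ => 0) (fun s => vec chevE8 8 s)

/-- being a root -/
abbrev Rt (a : Q8) : Prop := IsRoot cs8 e8T.isCartan a

theorem locFin8 : LocFin K8 := locFin_of_isAlgebraic 3 K8

theorem nsys8 : NSys CoxeterMatrix.E₈ (TT chevE8 K8) (nc e8T K8) := nsysT e8T locFin8 3

/-- `n` represents `w` -/
abbrev Rep (w : W8) (n : GK) : Prop := Rp cs8 nsys8 w n

/-- the action of the Weyl group on the root lattice -/
noncomputable abbrev act8 (w : W8) (x : Q8) : Q8 := rep cs8 e8T.isCartan w x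

/-- a torus element is regular -/
def Reg (t : GK) : Prop := t ∈ TT chevE8 K8 ∧ ∀ a, Rt a → cX e8T t a ≠ 1

/-- **BT**: Borel–Tits for a 3-subgroup normalised by a regular semisimple element. -/
def BT : Prop := ∀ (U : Subgroup G8) (y : G8) (z t : GK), IsPGroup 3 U → y ∈ Subgroup.normalizer (U : Set G8) →
  z⁻¹ * emb8 y * z = t → Reg t →
  ∃ f : Q8 →+ ℤ, ∀ u ∈ U, z⁻¹ * emb8 u * z ∈ RGD.Sup (XX chevE8 8 K8) {a | Rt a ∧ 0 < f a}

/-- **NT**: an element carrying a torus element to a regular one lies in the normaliser of the torus. -/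
def NT : Prop := ∀ s t n : GK, s ∈ TT chevE8 K8 → Reg t → n * s = t * n → ∃ w : W8, Rep w n

/-- **REG**: the stabiliser of an interior point of the alcove. -/
def REG : Prop := ∀ (N : ℕ) (Y : List ℕ) (ζ : K8) (t : GK) (w : W8), Y.length = 8 → (∀ i < 8, 1 ≤ Y.getD i 0) →
  dotN th8 Y < N → IsPrimitiveRoot ζ N → t ∈ TT chevE8 K8 → (∀ i : Fin 8, cX e8T t (sr i) = ζ ^ Y.getD i 0) →
  (∀ x, cX e8T t (act8 w x) = cX e8T t x) → w = 1

/-- **FIX**: the fixed points of Frobenius. -/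
def FIX : Prop := ∀ g : GK, frb8 g = g → ∃ h : G8, emb8 h = g

/-- **WT**: the representatives permute the weight spaces. -/
def WTS : Prop := ∀ (w : W8) (n : GK), Rep w n → ∀ i j, mx n i j ≠ 0 → wt i = act8 w (wt j)

/-- `-1` lies in the Weyl group -/
def NEG : Prop := ∃ w : W8, ∀ x, act8 w x = -x

end Cfsg.Agent.H288.E8L
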