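import Mathlib
import Cfsg.Agent.H288.E8L.Iface

/-!
# Weights of the entries of root elements and of the adjoint matrices
-/

set_option autoImplicit false
set_option linter.unusedSectionVars false
set_option maxRecDepth 100000

namespace Cfsg.Agent.H288.E8L

open CoxeterSystem Cfsg Cfsg.Lie Cfsg.Lie.ChevalleyDatum
open Cfsg.Agent.ChevalleyStructure Cfsg.Agent.ChevalleyStructure.Elts Cfsg.Agent.ChevalleyStructure.CoxeterGeom
  Cfsg.Agent.ChevalleyStructure.CoxeterGeomTypes Cfsg.Agent.ChevalleyStructure.RootVec
  Cfsg.Agent.ChevalleyStructure.RootVecTab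
open Cfsg.Agent.ChevalleyStructure.Ring Cfsg.Agent.ChevalleyStructure.LieAut Cfsg.Agent.ChevalleyStructure.LieAbs
  Cfsg.Agent.ChevalleyStructure.JacMain
open Cfsg.Agent.Tits.Roots Cfsg.Agent.Tits.Core Cfsg.Agent.Nodes Cfsg.Agent.Nodes.Reps Cfsg.Agent.Nodes.BNOf
  Cfsg.Agent.Nodes.RGDChev
open Cfsg.Agent.GpExc.Field Cfsg.Agent.BpExc.TowChev Cfsg.Agent.H129.TorusChar
open Cfsg.Agent.KFacts.RgdChevCoord
open Cfsg.Agent.H942.E8Tab Cfsg.Agent.H942.E8Alc Cfsg.Agent.H942.CB Cfsg.Agent.H944.Tab Cfsg.Agent.H944.Kac

theorem wt_inl (i : Fin chevE8.rank) : wt (Sum.inl i) = 0 := rfl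
theorem wt_inr (s : Fin chevE8.nroots) : wt (Sum.inr s) = vec chevE8 8 s := rfl

theorem rt_vec (s : Fin chevE8.nroots) : Rt (vec chevE8 8 s) := isRoot_vec e8T cs8 s.2

theorem vec_ne_zero (s : Fin chevE8.nroots) : vec chevE8 8 s ≠ 0 := (rt_vec s).ne_zero

theorem exists_idx {a : Q8} (ha : Rt a) : ∃ s : Fin chevE8.nroots, vec chevE8 8 s = a := by
  obtain ⟨r, hr, rfl⟩ := (isRoot_iff e8T cs8 a).1 ha
  exact ⟨⟨r, hr⟩, rfl⟩

theorem wt_inj {i j : chevE8.Idx} (h : wt i = wt j) (hi : wt i ≠ 0) : i = j := by
  rcases i with i | i
  · exact absurd rfl hi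
  · rcases j with j | j
    · exact absurd h hi
    · exact congrArg Sum.inr (Fin.ext (vec_inj e8T i.2 j.2 h))

/-- the entries of a root element -/
theorem entry (r : Fin chevE8.nroots) (i k : chevE8.Idx) : ∃ (c : ℤ) (m : ℕ),
    (c ≠ 0 → wt i = wt k + (m : ℤ) • vec chevE8 8 r) ∧ (m = 0 → c = if i = k then 1 else 0) ∧
    (i = k → m = 0) ∧
    ∀ (R : Type) [CommRing R] (t : R), xMatR chevE8 R r t i k = (c : R) * t ^ m := by
  have hC : Checked chevE8 := e8T.checked
  rcases k with k | s
  · rcases i with i | u
    · refine ⟨if i = k then 1 else 0, 0, fun _ => ?_, fun _ => ?_, fun _ => rfl, fun R _ t => ?_⟩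
      · rw [wt_inl, wt_inl]; simp
      · by_cases h : i = k
        · rw [if_pos h, if_pos (congrArg Sum.inl h)]
        · rw [if_neg h, if_neg (fun e => h (Sum.inl.inj e))]
      · show (if i = k then (1 : R) else 0) = _
        split_ifs <;> simp
    · by_cases hu : u = r
      · refine ⟨-((chevE8.cartanSR.getD k.val #[]).getD r.val 0), 1, fun _ => ?_, fun h => absurd h one_ne_zero,
          fun h => by simp at h, fun R _ t => ?_⟩
        · rw [wt_inl, wt_inr, hu]; simp
        · show (if u = r then - (((chevE8.cartanSR.getD k.val #[]).getD r.val 0 : ℤ) : R) * t else 0) = _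
          rw [if_pos hu, Int.cast_neg, pow_one]
      · refine ⟨0, 1, fun h => absurd rfl h, fun h => absurd h one_ne_zero, fun h => by simp at h, fun R _ t => ?_⟩
        show (if u = r then - (((chevE8.cartanSR.getD k.val #[]).getD r.val 0 : ℤ) : R) * t else 0) = _
        rw [if_neg hu]; simp
  · by_cases hsr : s = r
    · rcases i with i | u
      · refine ⟨0, 1, fun h => absurd rfl h, fun h => absurd h one_ne_zero, fun h => by simp at h, fun R _ t => ?_⟩
        show (if s = r then (0 : R) else _) = _
        rw [if_pos hsr]; simp
      · refine ⟨if u = s then 1 else 0, 0, fun h => ?_, fun _ => ?_, fun _ => rfl, fun R _ t => ?_⟩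
        · have hu : u = s := by
            by_contra hc
            rw [if_neg hc] at h
            exact h rfl
          rw [hu]; simp
        · by_cases h : u = s
          · rw [if_pos h, if_pos (congrArg Sum.inr h)]
          · rw [if_neg h, if_neg (fun e => h (Sum.inr.inj e))]
        · show (if s = r then (if u = r then (1 : R) else 0) else _) = _
          rw [if_pos hsr, ← hsr]
          split_ifs <;> simp
    · by_cases hsn : s.val = chevE8.negIdx.getD r.val 0
      · have hneg : vec chevE8 8 s = -vec chevE8 8 r := by
          rw [hsn]; exact vec_neg e8T r.2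
        rcases i with i | u
        · refine ⟨(chevE8.coroot.getD r.val #[]).getD i.val 0, 1, fun _ => ?_, fun h => absurd h one_ne_zero,
            fun h => by simp at h, fun R _ t => ?_⟩
          · rw [wt_inl, wt_inr, hneg]; simp
          · show (if s = r then (0 : R) else if s.val = chevE8.negIdx.getD r.val 0 then
              (((chevE8.coroot.getD r.val #[]).getD i.val 0 : ℤ) : R) * t else 0) = _
            rw [if_neg hsr, if_pos hsn, pow_one]
        · by_cases hus : u = s
          · refine ⟨1, 0, fun _ => ?_, fun _ => ?_, fun _ => rfl, fun R _ t => ?_⟩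
            · rw [hus]; simp
            · rw [if_pos (congrArg Sum.inr hus)]
            · show (if s = r then (if u = r then (1 : R) else 0) else if s.val = chevE8.negIdx.getD r.val 0 then
                (if u = s then 1 else if u = r then -(t ^ 2) else 0) else _) = _
              rw [if_neg hsr, if_pos hsn, if_pos hus]; simp
          · by_cases hur : u = r
            · refine ⟨-1, 2, fun _ => ?_, fun h => absurd h two_ne_zero, fun h => absurd (Sum.inr.inj h) hus,
                fun R _ t => ?_⟩
              · rw [wt_inr, wt_inr, hneg, hur]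
                push_cast
                rw [two_smul]
                abel
              · show (if s = r then (if u = r then (1 : R) else 0) else if s.val = chevE8.negIdx.getD r.val 0 then
                  (if u = s then 1 else if u = r then -(t ^ 2) else 0) else _) = _
                rw [if_neg hsr, if_pos hsn, if_neg hus, if_pos hur]; simp
            · refine ⟨0, 1, fun h => absurd rfl h, fun h => absurd h one_ne_zero,
                fun h => absurd (Sum.inr.inj h) hus, fun R _ t => ?_⟩
              show (if s = r then (if u = r then (1 : R) else 0) else if s.val = chevE8.negIdx.getD r.val 0 then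
                (if u = s then 1 else if u = r then -(t ^ 2) else 0) else _) = _
              rw [if_neg hsr, if_pos hsn, if_neg hus, if_neg hur]; simp
      · rcases i with i | u
        · refine ⟨0, 1, fun h => absurd rfl h, fun h => absurd h one_ne_zero, fun h => by simp at h, fun R _ t => ?_⟩
          show (if s = r then (0 : R) else if s.val = chevE8.negIdx.getD r.val 0 then
              (((chevE8.coroot.getD r.val #[]).getD i.val 0 : ℤ) : R) * t else 0) = _
          rw [if_neg hsr, if_neg hsn]; simp
        · have e1 : ∀ (R : Type) [CommRing R] (t : R), xMatR chevE8 R r t (Sum.inr u) (Sum.inr s) =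
              (if u = s then 1 else 0) +
              ((chevE8.chainCoeff r.val s.val u.val).map fun km => ((km.2 : ℤ) : R) * t ^ km.1).sum := by
            intro R _ t
            show (if s = r then (if u = r then (1 : R) else 0) else
              if s.val = chevE8.negIdx.getD r.val 0 then _ else _) = _
            rw [if_neg hsr, if_neg hsn]
          have hpos : ∀ km ∈ chevE8.chainCoeff r.val s.val u.val, km.1 ≠ 0 := by
            intro km hkm
            simp only [ChevalleyDatum.chainCoeff, List.mem_flatMap, List.mem_map] at hkm
            obtain ⟨e, -, q, -, rfl⟩ := hkm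
            exact Nat.succ_ne_zero _
          have hw : ∀ km ∈ chevE8.chainCoeff r.val s.val u.val,
              vec chevE8 8 u = vec chevE8 8 s + (km.1 : ℤ) • vec chevE8 8 r := by
            intro km hkm
            obtain ⟨_, h2⟩ := TorusConj.chainCoeff_wt hC hkm
            funext j
            rw [Pi.add_apply, Pi.smul_apply, smul_eq_mul]
            exact h2 j
          rcases hl : chevE8.chainCoeff r.val s.val u.val with _ | ⟨km, l⟩
          · refine ⟨if u = s then 1 else 0, 0, fun h => ?_, fun _ => ?_, fun _ => rfl, fun R _ t => ?_⟩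
            · have hu : u = s := by
                by_contra hc
                rw [if_neg hc] at h
                exact h rfl
              rw [hu]; simp
            · by_cases h : u = s
              · rw [if_pos h, if_pos (congrArg Sum.inr h)]
              · rw [if_neg h, if_neg (fun e => h (Sum.inr.inj e))]
            · rw [e1, hl]
              split_ifs <;> simp
          · have hkm : km ∈ chevE8.chainCoeff r.val s.val u.val := by rw [hl]; exact List.mem_cons_self
            have hus : u ≠ s := by
              intro hus
              have h1 := hw km hkm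
              rw [hus] at h1
              have h2 : (km.1 : ℤ) • vec chevE8 8 r = 0 := by
                have := add_eq_left.1 h1.symm
                exact this
              rcases smul_eq_zero.1 h2 with h3 | h3
              · exact hpos km hkm (by exact_mod_cast h3)
              · exact vec_ne_zero r h3
            have hall : ∀ km' ∈ chevE8.chainCoeff r.val s.val u.val, km'.1 = km.1 := by
              intro km' hkm'
              have h1 := hw km hkm
              rw [hw km' hkm'] at h1
              have h2 : ((km'.1 : ℤ) - km.1) • vec chevE8 8 r = 0 := by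
                rw [sub_smul, sub_eq_zero]
                exact add_left_cancel h1
              rcases smul_eq_zero.1 h2 with h3 | h3
              · omega
              · exact absurd h3 (vec_ne_zero r)
            refine ⟨((chevE8.chainCoeff r.val s.val u.val).map fun q => q.2).sum, km.1, fun _ => hw km hkm,
              fun h => absurd h (hpos km hkm), fun h => absurd (Sum.inr.inj h) hus, fun R _ t => ?_⟩
            rw [e1, if_neg hus, zero_add]
            have h3 : ((chevE8.chainCoeff r.val s.val u.val).map fun q => ((q.2 : ℤ) : R) * t ^ q.1) =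
                ((chevE8.chainCoeff r.val s.val u.val).map fun q => ((q.2 : ℤ) : R) * t ^ km.1) :=
              List.map_congr_left fun q hq => by rw [hall q hq]
            rw [h3, List.sum_map_mul_right]
            congr 1
            have h4 := map_list_sum (Int.castRingHom R)
              ((chevE8.chainCoeff r.val s.val u.val).map fun q : ℕ × ℤ => q.2)
            rw [List.map_map] at h4
            exact h4.symm

/-! ### the adjoint matrices -/

open Polynomial in
theorem adR_inr_wt (s : Fin chevE8.nroots) (i k : chevE8.Idx) (h : adA chevE8 (Sum.inr s) i k ≠ 0) :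
    wt i = wt (Sum.inr s) + wt k := by
  obtain ⟨c, m, h1, -, -, h4⟩ := entry s i k
  rw [adA_inr, coefE_apply] at h
  have h5 : xR chevE8 ℤ[X] s.val X i k = (c : ℤ[X]) * X ^ m := by
    rw [← h4 ℤ[X] X]
    unfold xR
    rw [dif_pos s.2]
  rw [h5] at h
  have h6 : ((c : ℤ[X]) * X ^ m).coeff 1 = if m = 1 then c else 0 := by
    rw [← C_eq_intCast, coeff_C_mul, coeff_X_pow]
    by_cases hm : m = 1
    · subst hm; simp
    · have : ¬ 1 = m := fun e => hm e.symm
      simp [hm, this]
  rw [h6] at h
  by_cases hm : m = 1
  · rw [if_pos hm] at h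
    rw [h1 h, hm]
    push_cast
    rw [one_smul, wt_inr, add_comm]
  · rw [if_neg hm] at h
    exact absurd rfl h

/-- the Cartan integers of the coordinates -/
def crt (j : Fin chevE8.rank) : chevE8.Idx → ℤ := Sum.elim (fun _ => 0) (fun s => Columns.car chevE8 j.val s.val)

theorem adA_inl_eq (j : Fin chevE8.rank) : adA chevE8 (Sum.inl j) = Matrix.diagonal (crt j) := rfl

theorem adA_wt (j i k : chevE8.Idx) (h : adA chevE8 j i k ≠ 0) : wt i = wt j + wt k := by
  rcases j with j | s
  · rw [adA_inl_eq, Matrix.diagonal_apply] at h
    by_cases hik : i = k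
    · rw [hik, wt_inl, zero_add]
    · rw [if_neg hik] at h
      exact absurd rfl h
  · exact adR_inr_wt s i k h

variable {K : Type} [Field K]

theorem adR_wt (j i k : chevE8.Idx) (h : adR chevE8 K j i k ≠ 0) : wt i = wt j + wt k := by
  apply adA_wt j i k
  intro h0
  apply h
  rw [adR_def, Matrix.map_apply, h0, map_zero]

theorem adR_inl (j : Fin chevE8.rank) :
    adR chevE8 K (Sum.inl j) = Matrix.diagonal (fun i => ((crt j i : ℤ) : K)) := by
  rw [adR_def, adA_inl_eq, Matrix.diagonal_map (map_zero _)]
  rfl

/-! ### the weights are separated by the torus modulo 3 -/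

/-- the code of a weight modulo 3 -/
def code3 (s : ℕ) : ℕ := (List.range 8).foldl (fun a j => 3 * a + ((Columns.car chevE8 j s) % 3).toNat) 0

/-- the codes of the roots -/
def codes : List ℕ := [2, 7, 21, 63, 189, 2025, 6075, 1215, 5508, 4509, 4419, 4389, 4379, 4375, 3645, 3078, 2808, 2718, 2688, 2678, 
  2674, 297, 450, 420, 410, 406, 1557, 1608, 1598, 1594, 1491, 1508, 1504, 1469, 1474, 1461, 747, 798, 788, 
  784, 924, 941, 937, 902, 907, 894, 573, 590, 586, 632, 637, 624, 515, 520, 534, 495, 4623, 4640, 4636, 4682, 
  4687, 4674, 4808, 4813, 4827, 4788, 5915, 5920, 5934, 5976, 5859, 5105, 5110, 5124, 5166, 5292, 4941, 2430, 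
  2193, 2210, 2206, 2252, 2257, 2244, 2378, 2383, 2397, 2358, 4214, 4219, 4233, 4275, 4158, 1703, 1708, 1722, 
  1764, 1890, 810, 3404, 3409, 3423, 3465, 3591, 2511, 1136, 1141, 1155, 1197, 1080, 137, 142, 156, 117, 47, 
  52, 39, 17, 13, 4, 8, 26, 22, 78, 68, 64, 234, 204, 194, 190, 2160, 2070, 2040, 2030, 2026, 5022, 6210, 6120, 
  6090, 6080, 6076, 1620, 1350, 1260, 1230, 1220, 1216, 5400, 5553, 5523, 5513, 5509, 4473, 4524, 4514, 4510, 
  4407, 4424, 4420, 4385, 4390, 4377, 4860, 2592, 3780, 3690, 3660, 3650, 3646, 2970, 3123, 3093, 3083, 3079, 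
  2772, 2823, 2813, 2809, 2706, 2723, 2719, 2684, 2689, 2676, 261, 312, 302, 298, 438, 455, 451, 416, 421, 408, 
  1545, 1562, 1558, 1604, 1609, 1596, 1487, 1492, 1506, 1467, 735, 752, 748, 794, 799, 786, 920, 925, 939, 900, 
  569, 574, 588, 630, 513, 4619, 4624, 4638, 4680, 4806, 5913, 5103, 2189, 2194, 2208, 2250, 2376, 4212, 1701, 
  3402, 1134, 135, 45, 15, 5, 1]

theorem codes_eq0 : (List.range' 0 60).map code3 = codes.take 60 := by decide +kernel

theorem codes_eq1 : (List.range' 60 60).map code3 = (codes.drop 60).take 60 := by decide +kernel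

theorem codes_eq2 : (List.range' 120 60).map code3 = ((codes.drop 60).drop 60).take 60 := by decide +kernel

theorem codes_eq3 : (List.range' 180 60).map code3 = ((codes.drop 60).drop 60).drop 60 := by decide +kernel

theorem codes_eq : (List.range 240).map code3 = codes := by
  have h : List.range 240 = List.range' 0 60 ++ (List.range' 60 60 ++ (List.range' 120 60 ++ List.range' 180 60)) := by
    decide +kernel
  rw [h, List.map_append, List.map_append, List.map_append, codes_eq0, codes_eq1, codes_eq2, codes_eq3,
    List.take_append_drop, List.take_append_drop, List.take_append_drop]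

theorem codes_nodup : codes.Nodup := by decide +kernel

theorem codes_pos : ∀ c ∈ codes, c ≠ 0 := by decide +kernel

end Cfsg.Agent.H288.E8L
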