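import Mathlib
import Cfsg.Agent.H288.E8L.Wts

/-!
# Separation of the weights, root elements are unitriangular for a functional, brackets of root vectors
-/

set_option autoImplicit false
set_option linter.unusedSectionVars false
set_option maxRecDepth 100000

namespace Cfsg.Agent.H288.E8L

open CoxeterSystem Cfsg Cfsg.Lie Cfsg.Lie.ChevalleyDatum
open Cfsg.Agent.ChevalleyStructure Cfsg.Agent.ChevalleyStructure.Elts Cfsg.Agent.ChevalleyStructure.CoxeterGeom
  Cfsg.Agent.ChevalleyStructure.CoxeterGeomTypes Cfsg.Agent.ChevalleyStructure.RootVec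
  Cfsg.Agent.ChevalleyStructure.RootVecTab
open Cfsg.Agent.ChevalleyStructure.Ring Cfsg.Agent.ChevalleyStructure.LieAut Cfsg.Agent.ChevalleyStructure.LieAbs
  Cfsg.Agent.ChevalleyStructure.JacMain
open Cfsg.Agent.Tits.Roots Cfsg.Agent.Tits.Core Cfsg.Agent.Nodes Cfsg.Agent.Nodes.Reps Cfsg.Agent.Nodes.BNOf
  Cfsg.Agent.Nodes.RGDChev
open Cfsg.Agent.GpExc.Field Cfsg.Agent.BpExc.TowChev Cfsg.Agent.H129.TorusChar
open Cfsg.Agent.KFacts.RgdChevCoord
open Cfsg.Agent.H942.E8Tab Cfsg.Agent.H942.E8Alc Cfsg.Agent.H942.CB Cfsg.Agent.H944.Tab Cfsg.Agent.H944.Kac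
open Matrix

theorem rank8 : chevE8.rank = 8 := rfl
theorem nroots8 : chevE8.nroots = 240 := rfl

/-! ### separation -/

theorem foldl_congr (f g : ℕ → ℕ) : ∀ (l : List ℕ) (_ : ∀ j ∈ l, f j = g j) (a : ℕ),
    l.foldl (fun a j => 3 * a + f j) a = l.foldl (fun a j => 3 * a + g j) a
  | [], _, _ => rfl
  | j :: l, h, a => by
    rw [List.foldl_cons, List.foldl_cons, h j List.mem_cons_self]
    exact foldl_congr f g l (fun i hi => h i (List.mem_cons_of_mem _ hi)) _

theorem code_eq_of {s u : ℕ} (h : ∀ j < 8, (Columns.car chevE8 j s) % 3 = (Columns.car chevE8 j u) % 3) :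
    code3 s = code3 u := by
  unfold code3
  exact foldl_congr _ _ _ (fun j hj => by rw [h j (List.mem_range.1 hj)]) 0

theorem code_zero_of {s : ℕ} (h : ∀ j < 8, (Columns.car chevE8 j s) % 3 = 0) : code3 s = 0 := by
  unfold code3
  rw [foldl_congr _ (fun _ => 0) _ (fun j hj => by rw [h j (List.mem_range.1 hj)]; rfl) 0]
  decide

theorem code_getElem {s : ℕ} (hs : s < 240) : codes[s]? = some (code3 s) := by
  rw [← codes_eq, List.getElem?_map, List.getElem?_range hs]
  rfl

theorem code_inj {s u : ℕ} (hs : s < 240) (hu : u < 240) (h : code3 s = code3 u) : s = u := by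
  have h1 := code_getElem hs
  have h2 := code_getElem hu
  rw [← h] at h2
  have hs' : s < codes.length := by
    by_contra hc
    rw [List.getElem?_eq_none (not_lt.1 hc)] at h1
    simp at h1
  exact (List.nodup_iff_getElem?_ne_getElem?.1 codes_nodup) |> fun H => by
    by_contra hne
    rcases lt_or_gt_of_ne hne with hlt | hlt
    · have hu' : u < codes.length := by
        by_contra hc
        rw [List.getElem?_eq_none (not_lt.1 hc)] at h2
        simp at h2
      exact H s u hlt hu' (by rw [h1, h2])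
    · exact H u s hlt hs' (by rw [h1, h2])

theorem code_ne {s : ℕ} (hs : s < 240) : code3 s ≠ 0 :=
  codes_pos _ (List.mem_of_getElem? (code_getElem hs))

theorem crt_inl (j : Fin chevE8.rank) (i : Fin chevE8.rank) : crt j (Sum.inl i) = 0 := rfl
theorem crt_inr (j : Fin chevE8.rank) (s : Fin chevE8.nroots) : crt j (Sum.inr s) = Columns.car chevE8 j.val s.val := rfl

/-- **Separation**: distinct weights differ modulo 3 on some simple coroot. -/
theorem sep {i k : chevE8.Idx} (h : wt i ≠ wt k) : ∃ j : Fin chevE8.rank, ¬ (3 : ℤ) ∣ crt j i - crt j k := by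
  by_contra hc
  push Not at hc
  have key : ∀ j < 8, ∀ hj : j < chevE8.rank, (3 : ℤ) ∣ crt ⟨j, hj⟩ i - crt ⟨j, hj⟩ k := fun j _ hj => hc ⟨j, hj⟩
  rcases i with i | s
  · rcases k with k | u
    · exact h rfl
    · refine code_ne (s := u.val) u.2 (code_zero_of fun j hj => ?_)
      have h1 := key j hj hj
      rw [crt_inl, crt_inr, zero_sub, dvd_neg] at h1
      exact Int.emod_eq_zero_of_dvd h1
  · rcases k with k | u
    · refine code_ne (s := s.val) s.2 (code_zero_of fun j hj => ?_)
      have h1 := key j hj hj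
      rw [crt_inl, crt_inr, sub_zero] at h1
      exact Int.emod_eq_zero_of_dvd h1
    · apply h
      have h2 : s.val = u.val := code_inj s.2 u.2 (code_eq_of fun j hj => by
        have h1 := key j hj hj
        rw [crt_inr, crt_inr] at h1
        exact (Int.emod_eq_emod_iff_emod_sub_eq_zero).2 (Int.emod_eq_zero_of_dvd h1))
      rw [wt_inr, wt_inr, h2]

variable {K : Type} [Field K]

theorem sep_field [CharP K 3] {i k : chevE8.Idx} (h : wt i ≠ wt k) :
    ∃ j : Fin chevE8.rank, ((crt j i : ℤ) : K) ≠ ((crt j k : ℤ) : K) := by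
  obtain ⟨j, hj⟩ := sep h
  refine ⟨j, fun e => hj ?_⟩
  rw [← sub_eq_zero, ← Int.cast_sub] at e
  have := (CharP.intCast_eq_zero_iff K 3 (crt j i - crt j k)).1 e
  exact_mod_cast this

/-! ### unitriangular matrices for a functional -/

/-- unitriangular for a functional -/
def Uni (f : Q8 →+ ℤ) (M : Matrix chevE8.Idx chevE8.Idx K) : Prop :=
  (∀ i, M i i = 1) ∧ ∀ i j, i ≠ j → M i j ≠ 0 → 0 < f (wt i - wt j)

theorem Uni.one (f : Q8 →+ ℤ) : Uni f (1 : Matrix chevE8.Idx chevE8.Idx K) :=
  ⟨fun _ => Matrix.one_apply_eq _, fun _ _ hij h => absurd (Matrix.one_apply_ne hij) h⟩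

theorem Uni.mul {f : Q8 →+ ℤ} {M N : Matrix chevE8.Idx chevE8.Idx K} (hM : Uni f M) (hN : Uni f N) : Uni f (M * N) := by
  constructor
  · intro i
    rw [Matrix.mul_apply, Finset.sum_eq_single i]
    · rw [hM.1, hN.1, one_mul]
    · intro j _ hj
      by_contra h
      have h1 := left_ne_zero_of_mul h
      have h2 := right_ne_zero_of_mul h
      have h3 := hM.2 i j hj.symm h1
      have h4 := hN.2 j i hj h2
      have h5 : f (wt i - wt j) + f (wt j - wt i) = 0 := by rw [← map_add]; simp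
      omega
    · exact fun h => absurd (Finset.mem_univ i) h
  · intro i j hij h
    rw [Matrix.mul_apply] at h
    obtain ⟨k, -, hk⟩ := Finset.exists_ne_zero_of_sum_ne_zero h
    have h1 := left_ne_zero_of_mul hk
    have h2 := right_ne_zero_of_mul hk
    by_cases hik : i = k
    · subst hik
      exact hN.2 _ _ hij h2
    · by_cases hkj : k = j
      · subst hkj
        exact hM.2 _ _ hij h1
      · have h3 := hM.2 i k hik h1
        have h4 := hN.2 k j hkj h2
        have h5 : f (wt i - wt k) + f (wt k - wt j) = f (wt i - wt j) := by rw [← map_add]; congr 1; abel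
        omega

theorem uni_xMat {f : Q8 →+ ℤ} (r : Fin chevE8.nroots) (hf : 0 < f (vec chevE8 8 r)) (t : K) :
    Uni f (xMatR chevE8 K r t) := by
  constructor
  · intro i
    obtain ⟨c, m, -, h2, h3, h4⟩ := entry r i i
    rw [h4 K t, h3 rfl, h2 (h3 rfl), if_pos rfl, pow_zero, mul_one, Int.cast_one]
  · intro i j hij h
    obtain ⟨c, m, h1, h2, h3, h4⟩ := entry r i j
    rw [h4 K t] at h
    have hc : c ≠ 0 := by
      rintro rfl
      rw [Int.cast_zero, zero_mul] at h
      exact h rfl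
    have hm : m ≠ 0 := by
      intro hm
      have h5 := h2 hm
      rw [if_neg hij] at h5
      exact hc h5
    rw [h1 hc, add_sub_cancel_left, map_zsmul, smul_eq_mul]
    have : (0 : ℤ) < m := by omega
    exact mul_pos this hf

theorem mem_XX_vec (r : Fin chevE8.nroots) {x : GK} (hx : x ∈ XX chevE8 8 K8 (vec chevE8 8 r)) :
    ∃ t : K8, mx x = xMatR chevE8 K8 r t := by
  have h1 : (x : GL chevE8.Idx K8) ∈ XV chevE8 8 K8 (vec chevE8 8 r) := hx
  rw [XV_vec e8T K8 r.2] at h1
  obtain ⟨t, ht⟩ := (mem_rootSubgroup_iff e8T.inList r _).1 h1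
  refine ⟨t, ?_⟩
  show ((x : GL chevE8.Idx K8) : Matrix chevE8.Idx chevE8.Idx K8) = _
  rw [ht, coe_xG, x_eq_xR]
  unfold xR
  rw [dif_pos r.2]

theorem uni_Sup {f : Q8 →+ ℤ} {g : GK} (hg : g ∈ RGD.Sup (XX chevE8 8 K8) {a | Rt a ∧ 0 < f a}) : Uni f (mx g) := by
  refine Subgroup.iSup_induction (C := fun g => Uni f (mx g)) _ hg ?_ (Uni.one f) ?_
  · rintro ⟨a, ha, hfa⟩ x hx
    obtain ⟨r, rfl⟩ := exists_idx ha
    obtain ⟨t, ht⟩ := mem_XX_vec r hx
    rw [ht]
    exact uni_xMat r hfa t
  · intro x y hx hy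
    show Uni f (mx (x * y))
    exact hx.mul hy

/-! ### brackets -/

theorem adv_inl (h : chevE8.Idx → K) (hh : ∀ s : Fin chevE8.nroots, h (Sum.inr s) = 0) :
    adv (adR chevE8 K) h = Matrix.diagonal (fun i => ∑ j : Fin chevE8.rank, h (Sum.inl j) * ((crt j i : ℤ) : K)) := by
  unfold adv
  rw [Fintype.sum_sum_type]
  have h1 : ∑ s : Fin chevE8.nroots, h (Sum.inr s) • adR chevE8 K (Sum.inr s) = 0 :=
    Finset.sum_eq_zero fun s _ => by rw [hh s, zero_smul]
  rw [h1, add_zero]
  ext i k
  rw [Matrix.sum_apply, Matrix.diagonal_apply]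
  by_cases hik : i = k
  · subst hik
    rw [if_pos rfl]
    refine Finset.sum_congr rfl fun j _ => ?_
    rw [Matrix.smul_apply, adR_inl, Matrix.diagonal_apply_eq, smul_eq_mul]
  · rw [if_neg hik]
    refine Finset.sum_eq_zero fun j _ => ?_
    rw [Matrix.smul_apply, adR_inl, Matrix.diagonal_apply_ne _ hik, smul_zero]

end Cfsg.Agent.H288.E8L
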