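import Mathlib
import Cfsg.Agent.H288.E8L.Sep

/-!
# Displacements: a group of unitriangular automorphisms, indecomposable displacements are roots
-/

set_option autoImplicit false
set_option linter.unusedSectionVars false
set_option maxRecDepth 100000

namespace Cfsg.Agent.H288.E8L

open CoxeterSystem Cfsg Cfsg.Lie Cfsg.Lie.ChevalleyDatum
open Cfsg.Agent.ChevalleyStructure Cfsg.Agent.ChevalleyStructure.Elts Cfsg.Agent.ChevalleyStructure.CoxeterGeom
  Cfsg.Agent.ChevalleyStructure.CoxeterGeomTypes Cfsg.Agent.ChevalleyStructure.RootVec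
  Cfsg.Agent.ChevalleyStructure.RootVecTab
open Cfsg.Agent.ChevalleyStructure.Ring Cfsg.Agent.ChevalleyStructure.LieAut Cfsg.Agent.ChevalleyStructure.LieAbs
  Cfsg.Agent.ChevalleyStructure.JacMain
open Cfsg.Agent.Tits.Roots Cfsg.Agent.Tits.Core Cfsg.Agent.Nodes Cfsg.Agent.Nodes.Reps Cfsg.Agent.Nodes.BNOf
  Cfsg.Agent.Nodes.RGDChev
open Cfsg.Agent.GpExc.Field Cfsg.Agent.BpExc.TowChev Cfsg.Agent.H129.TorusChar
open Cfsg.Agent.KFacts.RgdChevCoord
open Cfsg.Agent.H942.E8Tab Cfsg.Agent.H942.E8Alc Cfsg.Agent.H942.CB Cfsg.Agent.H944.Tab Cfsg.Agent.H944.Kac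
open Matrix

/-! ### components -/

section cp

variable {K : Type} [Field K]

/-- the component of displacement `μ` -/
def cp (μ : Q8) (M : Matrix chevE8.Idx chevE8.Idx K) : Matrix chevE8.Idx chevE8.Idx K :=
  Matrix.of fun i j => if wt i = wt j + μ then M i j else 0

theorem cp_apply (μ : Q8) (M : Matrix chevE8.Idx chevE8.Idx K) (i j : chevE8.Idx) :
    cp μ M i j = if wt i = wt j + μ then M i j else 0 := rfl

theorem cp_of {μ : Q8} (M : Matrix chevE8.Idx chevE8.Idx K) {i j : chevE8.Idx} (h : wt i = wt j + μ) :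
    cp μ M i j = M i j := if_pos h

theorem cp_mul (S : Finset Q8) {M N : Matrix chevE8.Idx chevE8.Idx K} {μ : Q8}
    (hS : ∀ i j l, M i j ≠ 0 → N j l ≠ 0 → wt i = wt l + μ → wt i - wt j ∈ S) :
    cp μ (M * N) = ∑ ν ∈ S, cp ν M * cp (μ - ν) N := by
  ext i l
  rw [Matrix.sum_apply, cp_apply]
  simp only [Matrix.mul_apply]
  rw [Finset.sum_comm]
  by_cases hil : wt i = wt l + μ
  · rw [if_pos hil]
    refine Finset.sum_congr rfl fun j _ => ?_
    by_cases h0 : M i j * N j l = 0
    · rw [h0]
      symm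
      refine Finset.sum_eq_zero fun ν _ => ?_
      rw [cp_apply, cp_apply]
      split_ifs
      · exact h0
      · rw [mul_zero]
      · rw [zero_mul]
      · rw [mul_zero]
    · have hm := hS i j l (left_ne_zero_of_mul h0) (right_ne_zero_of_mul h0) hil
      rw [Finset.sum_eq_single (wt i - wt j)]
      · rw [cp_of M (by abel), cp_of N (by rw [hil]; abel)]
      · intro ν _ hν
        rw [cp_apply, if_neg (fun e => hν (by rw [e]; abel)), zero_mul]
      · exact fun h => absurd hm h
  · rw [if_neg hil]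
    symm
    refine Finset.sum_eq_zero fun j _ => Finset.sum_eq_zero fun ν _ => ?_
    rw [cp_apply, cp_apply]
    by_cases h1 : wt i = wt j + ν
    · by_cases h2 : wt j = wt l + (μ - ν)
      · exfalso
        apply hil
        rw [h1, h2]; abel
      · rw [if_neg h2, mul_zero]
    · rw [if_neg h1, zero_mul]

theorem cp_eq_zero_iff {μ : Q8} {M : Matrix chevE8.Idx chevE8.Idx K} :
    cp μ M = 0 ↔ ∀ i j, wt i = wt j + μ → M i j = 0 := by
  constructor
  · intro h i j hij
    rw [← cp_of M hij, h, Matrix.zero_apply]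
  · intro h
    ext i j
    rw [cp_apply, Matrix.zero_apply]
    split_ifs with h1
    · exact h i j h1
    · rfl

theorem cp_add (μ : Q8) (M N : Matrix chevE8.Idx chevE8.Idx K) : cp μ (M + N) = cp μ M + cp μ N := by
  ext i j
  rw [Matrix.add_apply, cp_apply, cp_apply, cp_apply, Matrix.add_apply]
  split_ifs <;> simp

end cp

/-- the Cartan integer is additive in the weight -/
theorem crt_eq (j : Fin chevE8.rank) (i : chevE8.Idx) :
    crt j i = pairing (cartanOf chevE8 8) (j : Fin 8) (wt i) := by
  rcases i with i | s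
  · rw [crt_inl, wt_inl]
    unfold pairing
    exact (Finset.sum_eq_zero fun k _ => by rw [Pi.zero_apply, mul_zero]).symm
  · rw [crt_inr, wt_inr]
    exact (pairing_vec e8T (j : Fin 8) s.2).symm

theorem crt_add (j : Fin chevE8.rank) {i k m : chevE8.Idx} (h : wt i = wt k + wt m) :
    crt j i = crt j k + crt j m := by
  rw [crt_eq, crt_eq, crt_eq, h]
  exact pairing_add _ _ _ _

/-! ### a unitriangular group of automorphisms -/

theorem inE8 : chevE8 ∈ [chevG2, chevB2, chevD4, chevF4, chevE6, chevE7, chevE8] := by simp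

theorem aut (g : GK) (v : chevE8.Idx → K8) :
    mx g * adv (adR chevE8 K8) v = adv (adR chevE8 K8) (mx g *ᵥ v) * mx g :=
  JacAll.group_mul_adv chevE8 inE8 K8 (g : GL chevE8.Idx K8) g.2 v

section U

variable (W : Subgroup GK)

/-- the nonzero displacements -/
def PP : Set Q8 := {μ | μ ≠ 0 ∧ ∃ g ∈ W, ∃ i j, wt i = wt j + μ ∧ mx g i j ≠ 0}

/-- the monoid of displacements -/
def CL : AddSubmonoid Q8 := AddSubmonoid.closure (PP W)

/-- the indecomposable displacements -/
def Ind : Set Q8 := {a | a ∈ PP W ∧ ∀ x ∈ CL W, ∀ y ∈ CL W, x ≠ 0 → y ≠ 0 → a ≠ x + y}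

variable {W} {f : Q8 →+ ℤ} (hW : ∀ g ∈ W, Uni f (mx g))

include hW

theorem f_pos {μ : Q8} (h : μ ∈ PP W) : 0 < f μ := by
  obtain ⟨h0, g, hg, i, j, hij, hne⟩ := h
  have h1 : i ≠ j := by
    rintro rfl
    apply h0
    exact (add_eq_left.1 hij.symm)
  have h2 := (hW g hg).2 i j h1 hne
  rwa [hij, add_sub_cancel_left] at h2

theorem f_cl {μ : Q8} (h : μ ∈ CL W) : μ = 0 ∨ 0 < f μ := by
  unfold CL at h
  induction h using AddSubmonoid.closure_induction with
  | mem x hx => exact Or.inr (f_pos hW hx)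
  | zero => exact Or.inl rfl
  | add x y _ _ hx hy =>
    rcases hx with rfl | hx
    · rw [zero_add]; exact hy
    · rcases hy with rfl | hy
      · rw [add_zero]; exact Or.inr hx
      · right; rw [map_add]; omega

theorem f_cl' {μ : Q8} (h : μ ∈ CL W) (h0 : μ ≠ 0) : 0 < f μ := (f_cl hW h).resolve_left h0

omit hW in
theorem PP_le {μ : Q8} (h : μ ∈ PP W) : μ ∈ CL W := AddSubmonoid.subset_closure h

omit hW in
theorem Ind_le : Ind W ⊆ PP W := fun _ h => h.1

/-- every displacement is a sum of indecomposable ones -/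
theorem cl_le : CL W ≤ AddSubmonoid.closure (Ind W) := by
  have key : ∀ n : ℕ, ∀ x ∈ CL W, f x ≤ n → x ∈ AddSubmonoid.closure (Ind W) := by
    intro n
    induction n with
    | zero =>
      intro x hx hn
      rcases f_cl hW hx with rfl | h
      · exact zero_mem _
      · exact absurd h (by push_cast at hn; omega)
    | succ n ih =>
      intro x hx hn
      -- it is enough to treat displacements
      have hp : ∀ μ ∈ PP W, f μ ≤ (n : ℤ) + 1 → μ ∈ AddSubmonoid.closure (Ind W) := by
        intro μ hμ hle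
        by_cases hI : μ ∈ Ind W
        · exact AddSubmonoid.subset_closure hI
        · have h1 : ¬ ∀ x ∈ CL W, ∀ y ∈ CL W, x ≠ 0 → y ≠ 0 → μ ≠ x + y := fun h => hI ⟨hμ, h⟩
          push Not at h1
          obtain ⟨x, hx, y, hy, hx0, hy0, e⟩ := h1
          have h2 := f_cl' hW hx hx0
          have h3 := f_cl' hW hy hy0
          rw [e, map_add] at hle
          rw [e]
          exact add_mem (ih x hx (by omega)) (ih y hy (by omega))
      push_cast at hn
      unfold CL at hx
      induction hx using AddSubmonoid.closure_induction with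
      | mem x hx => exact hp x hx hn
      | zero => exact zero_mem _
      | add x y hx' hy' hx hy =>
        have h1 : 0 ≤ f x := by rcases f_cl hW hx' with rfl | h; · simp
                                · omega
        have h2 : 0 ≤ f y := by rcases f_cl hW hy' with rfl | h; · simp
                                · omega
        rw [map_add] at hn
        exact add_mem (hx (by omega)) (hy (by omega))
  intro x hx
  refine key (f x).toNat x hx ?_
  have : 0 ≤ f x := by rcases f_cl hW hx with rfl | h; · simp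
                       · omega
  omega

omit hW in
theorem disp_of_entry {g : GK} (hg : g ∈ W) {i j : chevE8.Idx} (h : mx g i j ≠ 0) (hij : wt i ≠ wt j) :
    wt i - wt j ∈ PP W :=
  ⟨sub_ne_zero.2 hij, g, hg, i, j, by abel, h⟩

theorem diag_entry {g : GK} (hg : g ∈ W) {i j : chevE8.Idx} (hij : wt i = wt j) :
    mx g i j = (1 : Matrix chevE8.Idx chevE8.Idx K8) i j := by
  by_cases h : i = j
  · rw [h, (hW g hg).1, Matrix.one_apply_eq]
  · rw [Matrix.one_apply_ne h]
    by_contra hne
    have := (hW g hg).2 i j h hne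
    rw [hij, sub_self, map_zero] at this
    exact lt_irrefl _ this

theorem cp_zero {g : GK} (hg : g ∈ W) : cp 0 (mx g) = 1 := by
  ext i j
  rw [cp_apply, add_zero]
  split_ifs with h
  · exact diag_entry hW hg h
  · exact (Matrix.one_apply_ne (fun e => h (by rw [e]))).symm

/-- the support condition for indecomposable displacements -/
theorem supp_ind {a : Q8} (ha : a ∈ Ind W) {M N : Matrix chevE8.Idx chevE8.Idx K8}
    (hM : ∀ i j, M i j ≠ 0 → wt i = wt j ∨ wt i - wt j ∈ PP W)
    (hN : ∀ i j, N i j ≠ 0 → wt i = wt j ∨ wt i - wt j ∈ PP W) :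
    cp a (M * N) = cp 0 M * cp a N + cp a M * cp 0 N := by
  have h0 : (0 : Q8) ≠ a := fun e => ha.1.1 e.symm
  rw [cp_mul {0, a} (M := M) (N := N) (μ := a), Finset.sum_pair h0, sub_zero, sub_self]
  intro i j l h1 h2 h3
  rw [Finset.mem_insert, Finset.mem_singleton]
  rcases hM i j h1 with h4 | h4
  · left; rw [h4, sub_self]
  · right
    rcases hN j l h2 with h5 | h5
    · rw [h5, h3, add_sub_cancel_left]
    · exfalso
      exact ha.2 _ (PP_le h4) _ (PP_le h5) h4.1 h5.1 (by rw [h3]; abel)

omit hW in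
theorem supp_mem {g : GK} (hg : g ∈ W) (i j : chevE8.Idx) (h : mx g i j ≠ 0) : wt i = wt j ∨ wt i - wt j ∈ PP W := by
  by_cases e : wt i = wt j
  · exact Or.inl e
  · exact Or.inr (disp_of_entry hg h e)

theorem cp_ind_mul {a : Q8} (ha : a ∈ Ind W) {g g' : GK} (hg : g ∈ W) (hg' : g' ∈ W) :
    cp a (mx (g * g')) = cp a (mx g) + cp a (mx g') := by
  have e : mx (g * g') = mx g * mx g' := rfl
  rw [e, supp_ind hW ha (supp_mem hg) (supp_mem hg'), cp_zero hW hg, cp_zero hW hg', one_mul, mul_one, add_comm]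

/-- the equation for the component of an indecomposable displacement -/
theorem ind_eq {a : Q8} (ha : a ∈ Ind W) {g : GK} (hg : g ∈ W) (j : Fin chevE8.rank) (i k : chevE8.Idx)
    (hik : wt i = wt k + a) :
    mx g i k * ((crt j k : ℤ) : K8) = ((crt j i : ℤ) : K8) * mx g i k +
      ∑ s : Fin chevE8.nroots, if vec chevE8 8 s = a then mx g (Sum.inr s) (Sum.inl j) * adR chevE8 K8 (Sum.inr s) i k
        else 0 := by
  have h1 := aut g (Pi.single (Sum.inl j) 1)
  rw [adv_single_one] at h1
  set N := adv (adR chevE8 K8) (mx g *ᵥ Pi.single (Sum.inl j) 1) with hNdef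
  have hcol : ∀ m, (mx g *ᵥ Pi.single (Sum.inl j) (1 : K8)) m = mx g m (Sum.inl j) := by
    intro m
    rw [Matrix.mulVec_single_one]
    rfl
  have hN : ∀ p q, N p q = ∑ m, mx g m (Sum.inl j) * adR chevE8 K8 m p q := by
    intro p q
    rw [hNdef]
    unfold adv
    rw [Matrix.sum_apply]
    exact Finset.sum_congr rfl fun m _ => by rw [Matrix.smul_apply, hcol, smul_eq_mul]
  have hNs : ∀ p q, N p q ≠ 0 → wt p = wt q ∨ wt p - wt q ∈ PP W := by
    intro p q h
    rw [hN] at h
    obtain ⟨m, -, hm⟩ := Finset.exists_ne_zero_of_sum_ne_zero h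
    have h2 := adR_wt m p q (right_ne_zero_of_mul hm)
    rcases supp_mem hg m (Sum.inl j) (left_ne_zero_of_mul hm) with h3 | h3
    · left; rw [h2, h3, wt_inl, zero_add]
    · right
      rw [wt_inl, sub_zero] at h3
      rwa [h2, add_sub_cancel_right]
  have hA : ∀ p q, adR chevE8 K8 (Sum.inl j) p q ≠ 0 → wt p = wt q ∨ wt p - wt q ∈ PP W := by
    intro p q h
    left
    rw [adR_wt _ p q h, wt_inl, zero_add]
  have h2 := congrArg (cp a) h1
  rw [supp_ind hW ha (supp_mem hg) hA, supp_ind hW ha hNs (supp_mem hg)] at h2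
  have h3 : cp a (adR chevE8 K8 (Sum.inl j)) = 0 := by
    rw [cp_eq_zero_iff]
    intro p q hpq
    by_contra h
    have h4 := adR_wt _ p q h
    rw [wt_inl, zero_add] at h4
    rw [h4] at hpq
    exact ha.1.1 (add_eq_left.1 hpq.symm)
  have h4 : cp 0 (adR chevE8 K8 (Sum.inl j)) = adR chevE8 K8 (Sum.inl j) := by
    ext p q
    rw [cp_apply, add_zero]
    split_ifs with h
    · rfl
    · by_contra hne
      apply h
      rw [adR_wt _ p q (fun e => hne e.symm), wt_inl, zero_add]
  have h5 : cp 0 N = adR chevE8 K8 (Sum.inl j) := by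
    ext p q
    rw [cp_apply, add_zero]
    split_ifs with h
    · rw [hN, Finset.sum_eq_single (Sum.inl j)]
      · rw [(hW g hg).1, one_mul]
      · intro m _ hm
        by_contra hne
        have h6 := adR_wt m p q (right_ne_zero_of_mul hne)
        have h7 : wt m = 0 := by
          rw [h] at h6
          exact (add_eq_right.1 h6.symm)
        have h8 := diag_entry hW hg (i := m) (j := Sum.inl j) (by rw [h7, wt_inl])
        rw [Matrix.one_apply_ne hm] at h8
        exact (left_ne_zero_of_mul hne) h8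
      · exact fun h => absurd (Finset.mem_univ _) h
    · by_contra hne
      apply h
      rw [adR_wt _ p q (fun e => hne e.symm), wt_inl, zero_add]
  rw [h3, mul_zero, zero_add, h4, h5, cp_zero hW hg, mul_one] at h2
  have h6 := congrFun (congrFun h2 i) k
  rw [Matrix.add_apply, adR_inl, Matrix.mul_diagonal, Matrix.diagonal_mul, cp_of _ hik] at h6
  rw [h6]
  congr 1
  rw [cp_of _ hik, hN, Fintype.sum_sum_type]
  have h7 : ∑ m : Fin chevE8.rank, mx g (Sum.inl m) (Sum.inl j) * adR chevE8 K8 (Sum.inl m) i k = 0 := by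
    refine Finset.sum_eq_zero fun m _ => ?_
    by_contra hne
    have h8 := adR_wt (Sum.inl m) i k (right_ne_zero_of_mul hne)
    rw [wt_inl, zero_add] at h8
    rw [h8] at hik
    exact ha.1.1 (add_eq_left.1 hik.symm)
  rw [h7, zero_add]
  refine Finset.sum_congr rfl fun s _ => ?_
  split_ifs with h8
  · rfl
  · by_contra hne
    have h9 := adR_wt (Sum.inr s) i k (right_ne_zero_of_mul hne)
    rw [wt_inr, hik, add_comm] at h9
    exact h8 (add_right_cancel h9.symm)

end U

end Cfsg.Agent.H288.E8L
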