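import Mathlib
import Cfsg.Agent.H288.E8L.Disp

/-!
# Indecomposable displacements act as root vectors
-/

set_option autoImplicit false
set_option linter.unusedSectionVars false
set_option maxRecDepth 100000

namespace Cfsg.Agent.H288.E8L

open CoxeterSystem Cfsg Cfsg.Lie Cfsg.Lie.ChevalleyDatum
open Cfsg.Agent.ChevalleyStructure Cfsg.Agent.ChevalleyStructure.Elts Cfsg.Agent.ChevalleyStructure.CoxeterGeom
  Cfsg.Agent.ChevalleyStructure.CoxeterGeomTypes Cfsg.Agent.ChevalleyStructure.RootVec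
  Cfsg.Agent.ChevalleyStructure.RootVecTab
open Cfsg.Agent.ChevalleyStructure.Ring Cfsg.Agent.ChevalleyStructure.LieAut Cfsg.Agent.ChevalleyStructure.LieAbs
  Cfsg.Agent.ChevalleyStructure.JacMain
open Cfsg.Agent.Tits.Roots Cfsg.Agent.Tits.Core Cfsg.Agent.Nodes Cfsg.Agent.Nodes.Reps Cfsg.Agent.Nodes.BNOf
  Cfsg.Agent.Nodes.RGDChev
open Cfsg.Agent.GpExc.Field Cfsg.Agent.BpExc.TowChev Cfsg.Agent.H129.TorusChar
open Cfsg.Agent.KFacts.RgdChevCoord
open Cfsg.Agent.H942.E8Tab Cfsg.Agent.H942.E8Alc Cfsg.Agent.H942.CB Cfsg.Agent.H944.Tab Cfsg.Agent.H944.Kac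
open Matrix

instance charK8 : CharP K8 3 := charP_of_injective_algebraMap (algebraMap (ZMod 3) K8).injective 3

theorem exists_jj (s : Fin chevE8.nroots) : ∃ j : Fin chevE8.rank, ((crt j (Sum.inr s) : ℤ) : K8) ≠ 0 := by
  obtain ⟨j, hj⟩ := sep_field (K := K8) (i := Sum.inr s) (k := Sum.inl ⟨0, by decide⟩)
    (by rw [wt_inr, wt_inl]; exact vec_ne_zero s)
  refine ⟨j, ?_⟩
  rwa [crt_inl, Int.cast_zero] at hj

/-- a coroot on which the root does not vanish -/
noncomputable def jj (s : Fin chevE8.nroots) : Fin chevE8.rank := Classical.choose (exists_jj s)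

theorem jj_spec (s : Fin chevE8.nroots) : ((crt (jj s) (Sum.inr s) : ℤ) : K8) ≠ 0 := Classical.choose_spec (exists_jj s)

/-- the coefficient of a matrix at a root -/
noncomputable def cf (s : Fin chevE8.nroots) (M : Matrix chevE8.Idx chevE8.Idx K8) : K8 :=
  -(M (Sum.inr s) (Sum.inl (jj s))) / ((crt (jj s) (Sum.inr s) : ℤ) : K8)

section U

variable {W : Subgroup GK} {f : Q8 →+ ℤ} (hW : ∀ g ∈ W, Uni f (mx g))

include hW

/-- indecomposable displacements are roots -/
theorem ind_root {a : Q8} (ha : a ∈ Ind W) : ∃ s : Fin chevE8.nroots, vec chevE8 8 s = a := by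
  by_contra hcon
  push Not at hcon
  obtain ⟨h0, g, hg, i, k, hik, hne⟩ := ha.1
  have h1 : wt i ≠ wt k := by
    intro e
    rw [e] at hik
    exact h0 (add_eq_left.1 hik.symm)
  obtain ⟨j, hj⟩ := sep_field (K := K8) h1
  have h2 := ind_eq hW ha hg j i k hik
  rw [Finset.sum_eq_zero (fun s _ => if_neg (hcon s)), add_zero, mul_comm] at h2
  exact hj (mul_right_cancel₀ hne h2).symm

/-- the component at an indecomposable displacement is a multiple of the adjoint of the root vector -/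
theorem cp_eq {s : Fin chevE8.nroots} (ha : vec chevE8 8 s ∈ Ind W) {g : GK} (hg : g ∈ W) :
    cp (vec chevE8 8 s) (mx g) = cf s (mx g) • adR chevE8 K8 (Sum.inr s) := by
  ext i k
  rw [cp_apply, Matrix.smul_apply, smul_eq_mul]
  split_ifs with hik
  · have h2 := ind_eq hW ha hg (jj s) i k hik
    rw [Finset.sum_eq_single s, if_pos rfl] at h2
    · have h3 : crt (jj s) i = crt (jj s) k + crt (jj s) (Sum.inr s) := crt_add _ hik
      have h4 := jj_spec s
      rw [h3, Int.cast_add] at h2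
      unfold cf
      rw [div_mul_eq_mul_div, eq_div_iff h4]
      linear_combination -h2
    · intro b _ hb
      rw [if_neg]
      intro e
      exact hb (Fin.ext (vec_inj e8T b.2 s.2 e))
    · exact fun h => absurd (Finset.mem_univ _) h
  · by_contra hne
    apply hik
    have := adR_wt (Sum.inr s) i k (right_ne_zero_of_mul (fun e => hne e.symm))
    rw [this, wt_inr, add_comm]

theorem cf_mul {s : Fin chevE8.nroots} (ha : vec chevE8 8 s ∈ Ind W) {g g' : GK} (hg : g ∈ W) (hg' : g' ∈ W) :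
    cf s (mx (g * g')) = cf s (mx g) + cf s (mx g') := by
  have h1 := congrFun (congrFun (cp_ind_mul hW ha hg hg') (Sum.inr s)) (Sum.inl (jj s))
  have h2 : wt (Sum.inr s) = wt (Sum.inl (jj s)) + vec chevE8 8 s := by rw [wt_inr, wt_inl, zero_add]
  rw [Matrix.add_apply, cp_of _ h2, cp_of _ h2, cp_of _ h2] at h1
  unfold cf
  rw [h1]
  ring

theorem exists_cf_ne {s : Fin chevE8.nroots} (ha : vec chevE8 8 s ∈ Ind W) : ∃ g ∈ W, cf s (mx g) ≠ 0 := by
  obtain ⟨h0, g, hg, i, k, hik, hne⟩ := ha.1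
  refine ⟨g, hg, fun h => hne ?_⟩
  have h1 := congrFun (congrFun (cp_eq hW ha hg) i) k
  rw [cp_of _ hik, h, zero_smul, Matrix.zero_apply] at h1
  exact h1

end U

/-! ### conjugation by torus elements -/

theorem mx_torus {t : GK} (ht : t ∈ TT chevE8 K8) : mx t = Matrix.diagonal (fun i => cX e8T t (wt i)) := by
  have h := TT_diag' e8T ht
  show ((t : GL chevE8.Idx K8) : Matrix chevE8.Idx chevE8.Idx K8) = _
  rw [h]
  congr 1
  funext i
  rcases i with i | s
  · rw [Sum.elim_inl, wt_inl]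
    exact (isMC_cX e8T ht).zero.symm
  · rw [Sum.elim_inr, wt_inr]

theorem mx_mul (g g' : GK) : mx (g * g') = mx g * mx g' := rfl

theorem conj_entry {t : GK} (ht : t ∈ TT chevE8 K8) (g : GK) (i k : chevE8.Idx) :
    mx (t * g * t⁻¹) i k * cX e8T t (wt k) = cX e8T t (wt i) * mx g i k := by
  have h1 : mx (t * g * t⁻¹) * mx t = mx t * mx g := by
    rw [← mx_mul, ← mx_mul, inv_mul_cancel_right]
  have h2 := congrFun (congrFun h1 i) k
  rwa [mx_torus ht, Matrix.mul_diagonal, Matrix.diagonal_mul] at h2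

theorem cf_conj {t : GK} (ht : t ∈ TT chevE8 K8) (g : GK) (s : Fin chevE8.nroots) :
    cf s (mx (t * g * t⁻¹)) = cX e8T t (vec chevE8 8 s) * cf s (mx g) := by
  have h := conj_entry ht g (Sum.inr s) (Sum.inl (jj s))
  rw [wt_inl, wt_inr, (isMC_cX e8T ht).zero, mul_one] at h
  unfold cf
  rw [h]
  ring

end Cfsg.Agent.H288.E8L
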