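import Mathlib
import Cfsg.Agent.H288.E8L.IndRoot

/-!
# Brackets of root vectors
-/

set_option autoImplicit false
set_option linter.unusedSectionVars false
set_option maxRecDepth 100000

namespace Cfsg.Agent.H288.E8L

open CoxeterSystem Cfsg Cfsg.Lie Cfsg.Lie.ChevalleyDatum
open Cfsg.Agent.ChevalleyStructure Cfsg.Agent.ChevalleyStructure.Elts Cfsg.Agent.ChevalleyStructure.CoxeterGeom
  Cfsg.Agent.ChevalleyStructure.CoxeterGeomTypes Cfsg.Agent.ChevalleyStructure.RootVec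
  Cfsg.Agent.ChevalleyStructure.RootVecTab
open Cfsg.Agent.ChevalleyStructure.Ring Cfsg.Agent.ChevalleyStructure.LieAut Cfsg.Agent.ChevalleyStructure.LieAbs
  Cfsg.Agent.ChevalleyStructure.JacMain
open Cfsg.Agent.Tits.Roots Cfsg.Agent.Tits.Core Cfsg.Agent.Nodes Cfsg.Agent.Nodes.Reps Cfsg.Agent.Nodes.BNOf
  Cfsg.Agent.Nodes.RGDChev
open Cfsg.Agent.GpExc.Field Cfsg.Agent.BpExc.TowChev Cfsg.Agent.H129.TorusChar
open Cfsg.Agent.KFacts.RgdChevCoord
open Cfsg.Agent.H942.E8Tab Cfsg.Agent.H942.E8Alc Cfsg.Agent.H942.CB Cfsg.Agent.H944.Tab Cfsg.Agent.H944.Kac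
open Matrix

/-- the structure constant read off the table -/
def Ncf (r s u : ℕ) : ℤ := ((chevE8.chainCoeff r s u).map fun q => q.2).sum

open Polynomial in
theorem adA_chain {r s u : Fin chevE8.nroots} (hsr : s ≠ r) (hsn : s.val ≠ chevE8.negIdx.getD r.val 0)
    (hv : vec chevE8 8 u = vec chevE8 8 r + vec chevE8 8 s) :
    adA chevE8 (Sum.inr r) (Sum.inr u) (Sum.inr s) = Ncf r.val s.val u.val := by
  have hC : Checked chevE8 := e8T.checked
  have hus : u ≠ s := by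
    rintro rfl
    exact vec_ne_zero r (add_eq_right.1 hv.symm)
  have h1 : ∀ km ∈ chevE8.chainCoeff r.val s.val u.val, km.1 = 1 := by
    intro km hkm
    obtain ⟨_, h2⟩ := TorusConj.chainCoeff_wt hC hkm
    have h3 : vec chevE8 8 u = vec chevE8 8 s + (km.1 : ℤ) • vec chevE8 8 r := by
      funext j
      rw [Pi.add_apply, Pi.smul_apply, smul_eq_mul]
      exact h2 j
    rw [hv, add_comm (vec chevE8 8 s)] at h3
    have h4 := add_right_cancel h3
    have h5 : ((km.1 : ℤ) - 1) • vec chevE8 8 r = 0 := by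
      rw [sub_smul, one_smul, ← h4, sub_self]
    rcases smul_eq_zero.1 h5 with h6 | h6
    · omega
    · exact absurd h6 (vec_ne_zero r)
  have e1 : xR chevE8 ℤ[X] r.val X (Sum.inr u) (Sum.inr s) = (if u = s then 1 else 0) +
      ((chevE8.chainCoeff r.val s.val u.val).map fun km => ((km.2 : ℤ) : ℤ[X]) * X ^ km.1).sum := by
    unfold xR
    rw [dif_pos r.2]
    show (if s = r then (if u = r then (1 : ℤ[X]) else 0) else
      if s.val = chevE8.negIdx.getD r.val 0 then _ else _) = _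
    rw [if_neg hsr, if_neg hsn]
  rw [adA_inr, coefE_apply, e1, if_neg hus, zero_add]
  have h3 : ((chevE8.chainCoeff r.val s.val u.val).map fun q => ((q.2 : ℤ) : ℤ[X]) * X ^ q.1) =
      ((chevE8.chainCoeff r.val s.val u.val).map fun q => ((q.2 : ℤ) : ℤ[X]) * X) :=
    List.map_congr_left fun q hq => by rw [h1 q hq, pow_one]
  rw [h3, List.sum_map_mul_right]
  have h4 := map_list_sum (Int.castRingHom ℤ[X])
    ((chevE8.chainCoeff r.val s.val u.val).map fun q : ℕ × ℤ => q.2)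
  rw [List.map_map] at h4
  have h5 : (List.map (fun q : ℕ × ℤ => ((q.2 : ℤ) : ℤ[X])) (chevE8.chainCoeff r.val s.val u.val)).sum =
      ((Ncf r.val s.val u.val : ℤ) : ℤ[X]) := h4.symm
  rw [h5, coeff_mul_X, ← C_eq_intCast, coeff_C_zero]
  exact Int.cast_id

open Polynomial in
theorem adA_col (s : Fin chevE8.nroots) (j : Fin chevE8.rank) :
    adA chevE8 (Sum.inr s) (Sum.inr s) (Sum.inl j) = -crt j (Sum.inr s) := by
  rw [adA_inr, coefE_apply]
  have e1 : xR chevE8 ℤ[X] s.val X (Sum.inr s) (Sum.inl j) =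
      - (((chevE8.cartanSR.getD j.val #[]).getD s.val 0 : ℤ) : ℤ[X]) * X := by
    unfold xR
    rw [dif_pos s.2]
    show (if s = s then - (((chevE8.cartanSR.getD j.val #[]).getD s.val 0 : ℤ) : ℤ[X]) * X else 0) = _
    rw [if_pos rfl]
  rw [e1, coeff_mul_X, ← Int.cast_neg, ← C_eq_intCast, coeff_C_zero]
  rfl

theorem adR_ne_zero (s : Fin chevE8.nroots) : adR chevE8 K8 (Sum.inr s) ≠ 0 := by
  intro h
  have h1 := congrFun (congrFun h (Sum.inr s)) (Sum.inl (jj s))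
  rw [adR_def, Matrix.map_apply, adA_col, Matrix.zero_apply, map_neg, neg_eq_zero] at h1
  exact jj_spec s h1

/-- the bracket of two root vectors -/
theorem brk {r s u : Fin chevE8.nroots} (hsr : s ≠ r) (hsn : s.val ≠ chevE8.negIdx.getD r.val 0)
    (hv : vec chevE8 8 u = vec chevE8 8 r + vec chevE8 8 s) :
    adR chevE8 K8 (Sum.inr r) * adR chevE8 K8 (Sum.inr s) - adR chevE8 K8 (Sum.inr s) * adR chevE8 K8 (Sum.inr r) =
      ((Ncf r.val s.val u.val : ℤ) : K8) • adR chevE8 K8 (Sum.inr u) := by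
  have h1 := JacAll.jacR_all chevE8 inE8 K8 (Pi.single (Sum.inr r) 1) (Pi.single (Sum.inr s) 1)
  rw [adv_single_one, adv_single_one] at h1
  rw [← h1, Matrix.mulVec_single_one]
  have h2 : (adR chevE8 K8 (Sum.inr r)).col (Sum.inr s) =
      Pi.single (Sum.inr u) ((Ncf r.val s.val u.val : ℤ) : K8) := by
    funext m
    rw [Matrix.col_apply]
    by_cases hm : m = Sum.inr u
    · rw [hm, Pi.single_eq_same, adR_def, Matrix.map_apply, adA_chain hsr hsn hv]
      rfl
    · rw [Pi.single_eq_of_ne hm]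
      by_contra hne
      have h3 := adR_wt (Sum.inr r) m (Sum.inr s) hne
      rw [wt_inr, wt_inr, ← hv] at h3
      refine hm (wt_inj ?_ ?_)
      · rw [h3, wt_inr]
      · rw [h3]; exact vec_ne_zero u
  rw [h2, adv_single]

/-! ### relations from commutativity -/

section U

variable {W : Subgroup GK} {f : Q8 →+ ℤ} (hW : ∀ g ∈ W, Uni f (mx g)) (hc : ∀ g ∈ W, ∀ g' ∈ W, g * g' = g' * g)

include hW

theorem cp_split {c0 : Q8} (hc0 : c0 ≠ 0) {D : Finset Q8} (h0D : 0 ∉ D) (hcD : c0 ∉ D)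
    (hD : ∀ x ∈ CL W, ∀ y ∈ CL W, x ≠ 0 → y ≠ 0 → x + y = c0 → x ∈ D) {g g' : GK} (hg : g ∈ W) (hg' : g' ∈ W) :
    cp c0 (mx (g * g')) = cp c0 (mx g') + (cp c0 (mx g) + ∑ ν ∈ D, cp ν (mx g) * cp (c0 - ν) (mx g')) := by
  have h1 : (0 : Q8) ∉ insert c0 D := by
    rw [Finset.mem_insert, not_or]
    exact ⟨fun e => hc0 e.symm, h0D⟩
  rw [mx_mul, cp_mul (insert 0 (insert c0 D)) (M := mx g) (N := mx g') (μ := c0), Finset.sum_insert h1,
    Finset.sum_insert hcD, sub_zero, sub_self, cp_zero hW hg, cp_zero hW hg', one_mul, mul_one]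
  intro i j l h1 h2 h3
  rw [Finset.mem_insert, Finset.mem_insert]
  rcases supp_mem hg i j h1 with h4 | h4
  · left; rw [h4, sub_self]
  · right
    rcases supp_mem hg' j l h2 with h5 | h5
    · left; rw [h5, h3, add_sub_cancel_left]
    · right
      exact hD _ (PP_le h4) _ (PP_le h5) h4.1 h5.1 (by rw [h3]; abel)

include hc

theorem rel_gen {c0 : Q8} (hc0 : c0 ≠ 0) {D : Finset Q8} (h0D : 0 ∉ D) (hcD : c0 ∉ D)
    (hD : ∀ x ∈ CL W, ∀ y ∈ CL W, x ≠ 0 → y ≠ 0 → x + y = c0 → x ∈ D) {g g' : GK} (hg : g ∈ W) (hg' : g' ∈ W) :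
    ∑ ν ∈ D, cp ν (mx g) * cp (c0 - ν) (mx g') = ∑ ν ∈ D, cp ν (mx g') * cp (c0 - ν) (mx g) := by
  have h1 := cp_split hW hc0 h0D hcD hD hg hg'
  have h2 := cp_split hW hc0 h0D hcD hD hg' hg
  rw [hc g hg g' hg', h2] at h1
  have h3 : cp c0 (mx g) + (cp c0 (mx g') + ∑ ν ∈ D, cp ν (mx g') * cp (c0 - ν) (mx g)) =
      (cp c0 (mx g) + cp c0 (mx g')) + ∑ ν ∈ D, cp ν (mx g') * cp (c0 - ν) (mx g) := by abel
  have h4 : cp c0 (mx g') + (cp c0 (mx g) + ∑ ν ∈ D, cp ν (mx g) * cp (c0 - ν) (mx g')) =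
      (cp c0 (mx g) + cp c0 (mx g')) + ∑ ν ∈ D, cp ν (mx g) * cp (c0 - ν) (mx g') := by abel
  rw [h3, h4] at h1
  exact (add_left_cancel h1).symm

/-- a root with a single decomposition -/
theorem rel_one {r s u : Fin chevE8.nroots} (hr : vec chevE8 8 r ∈ Ind W) (hs : vec chevE8 8 s ∈ Ind W)
    (hsr : s ≠ r) (hsn : s.val ≠ chevE8.negIdx.getD r.val 0)
    (hv : vec chevE8 8 u = vec chevE8 8 r + vec chevE8 8 s) (hN : ¬ (3 : ℤ) ∣ Ncf r.val s.val u.val)
    (hD : ∀ x ∈ CL W, ∀ y ∈ CL W, x ≠ 0 → y ≠ 0 → x + y = vec chevE8 8 u → x = vec chevE8 8 r ∨ x = vec chevE8 8 s)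
    {g g' : GK} (hg : g ∈ W) (hg' : g' ∈ W) :
    cf r (mx g) * cf s (mx g') = cf r (mx g') * cf s (mx g) := by
  have hne : vec chevE8 8 r ≠ vec chevE8 8 s := fun e => hsr (Fin.ext (vec_inj e8T s.2 r.2 e.symm))
  have h1 := rel_gen hW hc (vec_ne_zero u) (D := {vec chevE8 8 r, vec chevE8 8 s}) (by
      rw [Finset.mem_insert, Finset.mem_singleton, not_or]
      exact ⟨(vec_ne_zero r).symm, (vec_ne_zero s).symm⟩) (by
      rw [Finset.mem_insert, Finset.mem_singleton, not_or, hv]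
      exact ⟨fun e => vec_ne_zero s (add_eq_left.1 e), fun e => vec_ne_zero r (add_eq_right.1 e)⟩)
    (fun x hx y hy hx0 hy0 e => by
      rw [Finset.mem_insert, Finset.mem_singleton]
      exact hD x hx y hy hx0 hy0 e) hg hg'
  rw [Finset.sum_pair hne, Finset.sum_pair hne, hv, add_sub_cancel_left, add_sub_cancel_right,
    cp_eq hW hr hg, cp_eq hW hr hg', cp_eq hW hs hg, cp_eq hW hs hg'] at h1
  set A := adR chevE8 K8 (Sum.inr r)
  set B := adR chevE8 K8 (Sum.inr s)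
  have h2 := brk hsr hsn hv
  have h3 : (cf r (mx g) * cf s (mx g') - cf r (mx g') * cf s (mx g)) • (A * B - B * A) = 0 := by
    simp only [Matrix.smul_mul, Matrix.mul_smul, smul_smul] at h1
    rw [smul_sub, sub_smul, sub_smul]
    rw [← sub_eq_zero] at h1
    rw [← h1, mul_comm (cf s (mx g')) (cf r (mx g)), mul_comm (cf s (mx g)) (cf r (mx g'))]
    abel
  rw [h2, smul_smul, smul_eq_zero] at h3
  have h4 := h3.resolve_right (adR_ne_zero u)
  rcases mul_eq_zero.1 h4 with h5 | h5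
  · exact sub_eq_zero.1 h5
  · exact absurd ((CharP.intCast_eq_zero_iff K8 3 _).1 h5) (by exact_mod_cast hN)

/-- a root with two decompositions -/
theorem rel_two {r s r' s' u : Fin chevE8.nroots} (hr : vec chevE8 8 r ∈ Ind W) (hs : vec chevE8 8 s ∈ Ind W)
    (hr' : vec chevE8 8 r' ∈ Ind W) (hs' : vec chevE8 8 s' ∈ Ind W)
    (hne : [r, s, r', s'].Nodup) (hsn : s.val ≠ chevE8.negIdx.getD r.val 0)
    (hsn' : s'.val ≠ chevE8.negIdx.getD r'.val 0)
    (hv : vec chevE8 8 u = vec chevE8 8 r + vec chevE8 8 s) (hv' : vec chevE8 8 u = vec chevE8 8 r' + vec chevE8 8 s')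
    (hD : ∀ x ∈ CL W, ∀ y ∈ CL W, x ≠ 0 → y ≠ 0 → x + y = vec chevE8 8 u →
      x = vec chevE8 8 r ∨ x = vec chevE8 8 s ∨ x = vec chevE8 8 r' ∨ x = vec chevE8 8 s')
    {g g' : GK} (hg : g ∈ W) (hg' : g' ∈ W) :
    ((Ncf r.val s.val u.val : ℤ) : K8) * (cf r (mx g) * cf s (mx g') - cf r (mx g') * cf s (mx g)) +
    ((Ncf r'.val s'.val u.val : ℤ) : K8) * (cf r' (mx g) * cf s' (mx g') - cf r' (mx g') * cf s' (mx g)) = 0 := by
  have hinj : ∀ a b : Fin chevE8.nroots, vec chevE8 8 a = vec chevE8 8 b → a = b := fun a b e =>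
    Fin.ext (vec_inj e8T a.2 b.2 e)
  simp only [List.nodup_cons, List.mem_cons, List.not_mem_nil, or_false, not_or, List.nodup_nil, and_true,
    not_false_eq_true] at hne
  obtain ⟨⟨h12, h13, h14⟩, ⟨h23, h24⟩, h34⟩ := hne
  have h1 := rel_gen hW hc (vec_ne_zero u) (D := {vec chevE8 8 r, vec chevE8 8 s, vec chevE8 8 r', vec chevE8 8 s'}) (by
      simp only [Finset.mem_insert, Finset.mem_singleton, not_or]
      exact ⟨(vec_ne_zero r).symm, (vec_ne_zero s).symm, (vec_ne_zero r').symm, (vec_ne_zero s').symm⟩) (by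
      simp only [Finset.mem_insert, Finset.mem_singleton, not_or]
      refine ⟨?_, ?_, ?_, ?_⟩
      · rw [hv]; exact fun e => vec_ne_zero s (add_eq_left.1 e)
      · rw [hv]; exact fun e => vec_ne_zero r (add_eq_right.1 e)
      · rw [hv']; exact fun e => vec_ne_zero s' (add_eq_left.1 e)
      · rw [hv']; exact fun e => vec_ne_zero r' (add_eq_right.1 e))
    (fun x hx y hy hx0 hy0 e => by
      simp only [Finset.mem_insert, Finset.mem_singleton]
      exact hD x hx y hy hx0 hy0 e) hg hg'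
  have e1 : vec chevE8 8 r ∉ ({vec chevE8 8 s, vec chevE8 8 r', vec chevE8 8 s'} : Finset Q8) := by
    simp only [Finset.mem_insert, Finset.mem_singleton, not_or]
    exact ⟨fun e => h12 (hinj _ _ e), fun e => h13 (hinj _ _ e), fun e => h14 (hinj _ _ e)⟩
  have e2 : vec chevE8 8 s ∉ ({vec chevE8 8 r', vec chevE8 8 s'} : Finset Q8) := by
    simp only [Finset.mem_insert, Finset.mem_singleton, not_or]
    exact ⟨fun e => h23 (hinj _ _ e), fun e => h24 (hinj _ _ e)⟩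
  have e3 : vec chevE8 8 r' ≠ vec chevE8 8 s' := fun e => h34 (hinj _ _ e)
  have d1 : vec chevE8 8 u - vec chevE8 8 r = vec chevE8 8 s := by rw [hv]; abel
  have d2 : vec chevE8 8 u - vec chevE8 8 s = vec chevE8 8 r := by rw [hv]; abel
  have d3 : vec chevE8 8 u - vec chevE8 8 r' = vec chevE8 8 s' := by rw [hv']; abel
  have d4 : vec chevE8 8 u - vec chevE8 8 s' = vec chevE8 8 r' := by rw [hv']; abel
  rw [Finset.sum_insert e1, Finset.sum_insert e2, Finset.sum_pair e3, Finset.sum_insert e1, Finset.sum_insert e2,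
    Finset.sum_pair e3, d1, d2, d3, d4,
    cp_eq hW hr hg, cp_eq hW hr hg', cp_eq hW hs hg, cp_eq hW hs hg',
    cp_eq hW hr' hg, cp_eq hW hr' hg', cp_eq hW hs' hg, cp_eq hW hs' hg'] at h1
  have b1 := brk (fun e => h12 e.symm) hsn hv
  have b2 := brk (fun e => h34 e.symm) hsn' hv'
  set A := adR chevE8 K8 (Sum.inr r)
  set B := adR chevE8 K8 (Sum.inr s)
  set A' := adR chevE8 K8 (Sum.inr r')
  set B' := adR chevE8 K8 (Sum.inr s')
  have h3 : (cf r (mx g) * cf s (mx g') - cf r (mx g') * cf s (mx g)) • (A * B - B * A) +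
      (cf r' (mx g) * cf s' (mx g') - cf r' (mx g') * cf s' (mx g)) • (A' * B' - B' * A') = 0 := by
    simp only [Matrix.smul_mul, Matrix.mul_smul, smul_smul] at h1
    rw [smul_sub, sub_smul, sub_smul, smul_sub, sub_smul, sub_smul]
    rw [← sub_eq_zero] at h1
    rw [← h1, mul_comm (cf s (mx g')) (cf r (mx g)), mul_comm (cf s (mx g)) (cf r (mx g')),
      mul_comm (cf s' (mx g')) (cf r' (mx g)), mul_comm (cf s' (mx g)) (cf r' (mx g'))]
    abel
  rw [b1, b2, smul_smul, smul_smul, ← add_smul, smul_eq_zero] at h3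
  have h4 := h3.resolve_right (adR_ne_zero u)
  rw [← h4]
  ring

end U

end Cfsg.Agent.H288.E8L
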