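import Mathlib
import Cfsg.Agent.H288.E8L.Brk

/-!
# Frobenius stability of the indecomposable displacements, the highest weight argument
-/

set_option autoImplicit false
set_option linter.unusedSectionVars false
set_option maxRecDepth 100000

namespace Cfsg.Agent.H288.E8L

open CoxeterSystem Cfsg Cfsg.Lie Cfsg.Lie.ChevalleyDatum
open Cfsg.Agent.ChevalleyStructure Cfsg.Agent.ChevalleyStructure.Elts Cfsg.Agent.ChevalleyStructure.CoxeterGeom
  Cfsg.Agent.ChevalleyStructure.CoxeterGeomTypes Cfsg.Agent.ChevalleyStructure.RootVec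
  Cfsg.Agent.ChevalleyStructure.RootVecTab
open Cfsg.Agent.ChevalleyStructure.Ring Cfsg.Agent.ChevalleyStructure.LieAut Cfsg.Agent.ChevalleyStructure.LieAbs
  Cfsg.Agent.ChevalleyStructure.JacMain
open Cfsg.Agent.Tits.Roots Cfsg.Agent.Tits.Core Cfsg.Agent.Nodes Cfsg.Agent.Nodes.Reps Cfsg.Agent.Nodes.BNOf
  Cfsg.Agent.Nodes.RGDChev
open Cfsg.Agent.GpExc.Field Cfsg.Agent.BpExc.TowChev Cfsg.Agent.H129.TorusChar
open Cfsg.Agent.KFacts.RgdChevCoord
open Cfsg.Agent.H942.E8Tab Cfsg.Agent.H942.E8Alc Cfsg.Agent.H942.CB Cfsg.Agent.H944.Tab Cfsg.Agent.H944.Kac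
open Matrix

/-! ### three factors -/

theorem exists_of_mul3 {A B C : Matrix chevE8.Idx chevE8.Idx K8} {i j : chevE8.Idx} (h : (A * B * C) i j ≠ 0) :
    ∃ p q, A i p ≠ 0 ∧ B p q ≠ 0 ∧ C q j ≠ 0 := by
  rw [Matrix.mul_apply] at h
  obtain ⟨q, -, hq⟩ := Finset.exists_ne_zero_of_sum_ne_zero h
  have h1 := left_ne_zero_of_mul hq
  rw [Matrix.mul_apply] at h1
  obtain ⟨p, -, hp⟩ := Finset.exists_ne_zero_of_sum_ne_zero h1
  exact ⟨p, q, left_ne_zero_of_mul hp, right_ne_zero_of_mul hp, right_ne_zero_of_mul hq⟩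

theorem act8_inv (w : W8) (x : Q8) : act8 w (act8 w⁻¹ x) = x := rep_apply_inv _ _ _ _

theorem act8_inv' (w : W8) (x : Q8) : act8 w⁻¹ (act8 w x) = x := rep_inv_apply _ _ _ _

/-- the entries of the Frobenius image -/
theorem mx_frb (g : GK) (i j : chevE8.Idx) : mx (frb8 g) i j = mx g i j ^ 3 := by
  show (((emb e8T.inList (frobenius K8 3) g : GK) : GL chevE8.Idx K8) : Matrix chevE8.Idx chevE8.Idx K8) i j = _
  rw [coe_emb, coe_glMap, Matrix.map_apply]
  rfl

section U

variable {W : Subgroup GK}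

theorem pp_stable (hWT : WTS) {w : W8} {n : GK} (hn : Rep w n) (hfr : ∀ g ∈ W, frb8 g = n⁻¹ * g * n) (μ : Q8) :
    μ ∈ PP W ↔ act8 w μ ∈ PP W := by
  have hn' : Rep w⁻¹ n⁻¹ := hn.inv
  constructor
  · rintro ⟨h0, g, hg, i, j, hij, hne⟩
    have h1 : mx (n⁻¹ * g * n) i j ≠ 0 := by
      rw [← hfr g hg, mx_frb]
      exact pow_ne_zero _ hne
    obtain ⟨p, q, hp, hpq, hq⟩ := exists_of_mul3 (A := mx n⁻¹) (B := mx g) (C := mx n) h1
    have h2 := hWT _ _ hn' i p hp
    have h3 := hWT _ _ hn q j hq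
    have h4 : wt p = act8 w (wt i) := by rw [h2, act8_inv]
    refine ⟨fun e => h0 ?_, g, hg, p, q, ?_, hpq⟩
    · rw [← act8_inv' w μ, e]; exact map_zero _
    · rw [h4, h3, hij]; exact map_add _ _ _
  · rintro ⟨h0, g, hg, p, q, hpq, hne⟩
    have e1 : mx g = mx n * mx (frb8 g) * mx n⁻¹ := by
      rw [hfr g hg, ← mx_mul, ← mx_mul]
      congr 2
      group
    rw [e1] at hne
    obtain ⟨i, j, hi, hij, hj⟩ := exists_of_mul3 hne
    have h2 := hWT _ _ hn p i hi
    have h3 := hWT _ _ hn' j q hj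
    have h4 : wt q = act8 w (wt j) := by rw [h3, act8_inv]
    refine ⟨fun e => h0 ?_, g, hg, i, j, ?_, ?_⟩
    · rw [e]; exact map_zero _
    · have h5 : act8 w (wt i) = act8 w (wt j + μ) := by
        rw [← h2, hpq, h4]; exact (map_add _ _ _).symm
      rw [← act8_inv' w (wt i), h5, act8_inv']
    · rw [mx_frb] at hij
      exact fun e => hij (by rw [e]; exact zero_pow (by norm_num))

theorem cl_stable (hWT : WTS) {w : W8} {n : GK} (hn : Rep w n) (hfr : ∀ g ∈ W, frb8 g = n⁻¹ * g * n) (x : Q8) :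
    x ∈ CL W ↔ act8 w x ∈ CL W := by
  constructor
  · intro hx
    unfold CL at hx
    induction hx using AddSubmonoid.closure_induction with
    | mem x hx => exact PP_le ((pp_stable hWT hn hfr x).1 hx)
    | zero => rw [show act8 w 0 = 0 from map_zero _]; exact zero_mem _
    | add x y _ _ hx hy => rw [show act8 w (x + y) = act8 w x + act8 w y from map_add _ _ _]; exact add_mem hx hy
  · intro hx
    have key : ∀ y ∈ CL W, act8 w⁻¹ y ∈ CL W := by
      intro y hy
      unfold CL at hy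
      induction hy using AddSubmonoid.closure_induction with
      | mem y hy =>
        refine PP_le ((pp_stable hWT hn hfr _).2 ?_)
        rwa [act8_inv]
      | zero => rw [show act8 w⁻¹ 0 = 0 from map_zero _]; exact zero_mem _
      | add x y _ _ hx hy =>
        rw [show act8 w⁻¹ (x + y) = act8 w⁻¹ x + act8 w⁻¹ y from map_add _ _ _]
        exact add_mem hx hy
    have := key _ hx
    rwa [act8_inv'] at this

/-- the indecomposable displacements are stable under the Frobenius element of the Weyl group -/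
theorem ind_stable (hWT : WTS) {w : W8} {n : GK} (hn : Rep w n) (hfr : ∀ g ∈ W, frb8 g = n⁻¹ * g * n) (a : Q8) :
    a ∈ Ind W ↔ act8 w a ∈ Ind W := by
  constructor
  · rintro ⟨h1, h2⟩
    refine ⟨(pp_stable hWT hn hfr a).1 h1, fun x hx y hy hx0 hy0 e => ?_⟩
    refine h2 (act8 w⁻¹ x) ?_ (act8 w⁻¹ y) ?_ ?_ ?_ ?_
    · rw [cl_stable hWT hn hfr, act8_inv]; exact hx
    · rw [cl_stable hWT hn hfr, act8_inv]; exact hy
    · intro h; apply hx0; rw [← act8_inv w x, h]; exact map_zero _
    · intro h; apply hy0; rw [← act8_inv w y, h]; exact map_zero _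
    · rw [← act8_inv' w a, e]; exact map_add _ _ _
  · rintro ⟨h1, h2⟩
    refine ⟨(pp_stable hWT hn hfr a).2 h1, fun x hx y hy hx0 hy0 e => ?_⟩
    refine h2 (act8 w x) ((cl_stable hWT hn hfr x).1 hx) (act8 w y) ((cl_stable hWT hn hfr y).1 hy) ?_ ?_ ?_
    · intro h; apply hx0; rw [← act8_inv' w x, h]; exact map_zero _
    · intro h; apply hy0; rw [← act8_inv' w y, h]; exact map_zero _
    · rw [e]; exact map_add _ _ _

/-- a torus element whose character is trivial on the displacements centralises the group -/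
theorem comm_of_char {t : GK} (ht : t ∈ TT chevE8 K8) (h : ∀ μ ∈ PP W, cX e8T t μ = 1) {g : GK} (hg : g ∈ W) :
    t * g = g * t := by
  have h1 : mx (t * g) = mx (g * t) := by
    ext i k
    rw [mx_mul, mx_mul, mx_torus ht, Matrix.diagonal_mul, Matrix.mul_diagonal]
    by_cases h0 : mx g i k = 0
    · rw [h0, mul_zero, zero_mul]
    · rcases supp_mem hg i k h0 with h2 | h2
      · rw [h2, mul_comm]
      · have h3 := h _ h2
        have h4 : cX e8T t (wt i) = cX e8T t (wt k) := by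
          have h5 : wt i = (wt i - wt k) + wt k := by abel
          rw [h5, (isMC_cX e8T ht).add, h3, one_mul]
        rw [h4, mul_comm]
  exact Subtype.ext (Units.ext h1)

end U

end Cfsg.Agent.H288.E8L
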