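import Mathlib
import Cfsg.Agent.H288.E8L.Stab
import Cfsg.Agent.H288.E8L.Tab

/-!
# Two pieces of the argument
-/

set_option autoImplicit false
set_option linter.unusedSectionVars false
set_option maxRecDepth 100000

namespace Cfsg.Agent.H288.E8L

open CoxeterSystem Cfsg Cfsg.Lie Cfsg.Lie.ChevalleyDatum
open Cfsg.Agent.ChevalleyStructure Cfsg.Agent.ChevalleyStructure.Elts Cfsg.Agent.ChevalleyStructure.CoxeterGeom
  Cfsg.Agent.ChevalleyStructure.CoxeterGeomTypes Cfsg.Agent.ChevalleyStructure.RootVec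
  Cfsg.Agent.ChevalleyStructure.RootVecTab
open Cfsg.Agent.Tits.Roots Cfsg.Agent.Tits.Core Cfsg.Agent.Nodes Cfsg.Agent.Nodes.Reps Cfsg.Agent.Nodes.BNOf
  Cfsg.Agent.Nodes.RGDChev
open Cfsg.Agent.GpExc.Field Cfsg.Agent.BpExc.TowChev Cfsg.Agent.H129.TorusChar
open Cfsg.Agent.KFacts.RgdChevCoord
open Cfsg.Agent.H942.E8Tab Cfsg.Agent.H942.E8Alc Cfsg.Agent.H942.CB Cfsg.Agent.H944.Tab Cfsg.Agent.H944.Kac
open Matrix

/-- **HW**: the highest weight argument. `b` a root with `(b, a) ≥ 0` for all indecomposable displacements: column `b`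
of every element of `W` is the unit column (norms of weights), so `u n₀ u = n₀ u⁻¹ n₀` gives a displacement `2 b`. -/
def HW : Prop := ∀ (W : Subgroup GK) (f : Q8 →+ ℤ) (w0 : W8) (n0 u : GK), (∀ g ∈ W, Uni f (mx g)) → Rep w0 n0 →
  (∀ x, act8 w0 x = -x) → u ∈ W → u * n0 * u = n0 * u⁻¹ * n0 →
  ∀ s : Fin chevE8.nroots, (∀ a ∈ Ind W, 0 ≤ H943.LatFix.ip (cartanOf chevE8 8) (vec chevE8 8 s) a) →
    (2 : ℤ) • vec chevE8 8 s ∈ CL W

/-- **INV**: a parity functional, invariant under the Frobenius twist and zero on the displacements, gives an element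
of the centraliser. -/
def INV : Prop := ∀ (W : Subgroup GK) (w w0 : W8) (n n0 z : GK) (e : List ℤ), Rep w n → Rep w0 n0 →
  (∀ x, act8 w0 x = -x) → n = z⁻¹ * frb8 z → e.length = 8 → (∃ i < 8, e.getD i 0 % 2 ≠ 0) →
  (∀ x : Q8, (2 : ℤ) ∣ fz e (act8 w x) - fz e x) → (∀ a ∈ PP W, (2 : ℤ) ∣ fz e a) →
  ∃ (g : G8) (s : GK), g ≠ 1 ∧ emb8 g = z * s * z⁻¹ ∧ (∀ v ∈ W, s * v = v * s) ∧ s * n0 = n0 * s

end Cfsg.Agent.H288.E8L
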