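import Mathlib
import Cfsg.Agent.H288.E8L.Frob

/-!
# From a parity functional to an element of the centraliser
-/

set_option autoImplicit false
set_option linter.unusedSectionVars false
set_option maxRecDepth 100000

namespace Cfsg.Agent.H288.E8L

open CoxeterSystem Cfsg Cfsg.Lie Cfsg.Lie.ChevalleyDatum
open Cfsg.Agent.ChevalleyStructure Cfsg.Agent.ChevalleyStructure.Elts Cfsg.Agent.ChevalleyStructure.CoxeterGeom
  Cfsg.Agent.ChevalleyStructure.CoxeterGeomTypes Cfsg.Agent.ChevalleyStructure.RootVec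
  Cfsg.Agent.ChevalleyStructure.RootVecTab
open Cfsg.Agent.Tits.Roots Cfsg.Agent.Tits.Core Cfsg.Agent.Nodes Cfsg.Agent.Nodes.Reps Cfsg.Agent.Nodes.BNOf
  Cfsg.Agent.Nodes.RGDChev
open Cfsg.Agent.GpExc.Field Cfsg.Agent.BpExc.TowChev Cfsg.Agent.H129.TorusChar
open Cfsg.Agent.KFacts.RgdChevCoord
open Cfsg.Agent.H942.E8Tab Cfsg.Agent.H942.E8Alc Cfsg.Agent.H942.CB Cfsg.Agent.H944.Tab Cfsg.Agent.H944.Kac
open Matrix

theorem neg_one_zpow_eq {a b : ℤ} (h : (2 : ℤ) ∣ a - b) : ((-1 : K8)) ^ a = (-1 : K8) ^ b := by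
  obtain ⟨c, hc⟩ := h
  have e : a = b + 2 * c := by linarith
  have h0 : (-1 : K8) ≠ 0 := neg_ne_zero.2 one_ne_zero
  rw [e, zpow_add₀ h0, _root_.zpow_mul]
  have : ((-1 : K8)) ^ (2 : ℤ) = 1 := by norm_num
  rw [this, _root_.one_zpow, mul_one]

/-- **INV** -/
theorem inv : INV := by
  intro W w w0 n n0 z e hn hn0 hneg hnz he8 ⟨i, hi, hei⟩ hφ hP
  have h0 : (-1 : K8) ≠ 0 := neg_ne_zero.2 one_ne_zero
  have hmc : IsMC fun x : Q8 => (-1 : K8) ^ fz e x := ⟨by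
    show (-1 : K8) ^ fz e 0 = 1
    rw [fz_zero, zpow_zero], fun a b => by
    show (-1 : K8) ^ fz e (a + b) = _
    rw [fz_add, zpow_add₀ h0]⟩
  obtain ⟨s, hs, hsx⟩ := exists_cX e8T invC_E8 one_ne_zero hmc (fun i => ⟨_, pow_one _⟩)
  have hcomm : ∀ {v : W8} {m : GK}, Rep v m → (∀ x : Q8, (2 : ℤ) ∣ fz e (act8 v x) - fz e x) → m * s * m⁻¹ = s := by
    intro v m hm hx
    have hms : m * s * m⁻¹ ∈ TT chevE8 K8 := (Subgroup.mem_normalizer_iff.1 hm.mem_normalizer s).1 hs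
    refine cX_inj e8T hms hs fun i => ?_
    have h1 := cX_rp e8T cs8 locFin8 3 hm hs (act8 v⁻¹ (sr i))
    have h2 : (rep cs8 e8T.isCartan v) (act8 v⁻¹ (sr i)) = sr i := act8_inv v (sr i)
    rw [h2] at h1
    rw [h1, hsx, hsx]
    have h3 := hx (act8 v⁻¹ (sr i))
    rw [act8_inv] at h3
    exact (neg_one_zpow_eq h3).symm
  have hsn0 : n0 * s * n0⁻¹ = s := hcomm hn0 fun x => by
    rw [hneg]
    have : fz e (-x) - fz e x = 2 * (-fz e x) := by rw [H845.E8L.fz_neg]; ring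
    rw [this]
    exact dvd_mul_right _ _
  have hsn : n * s * n⁻¹ = s := hcomm hn hφ
  have hfs : frb8 s = s := by
    refine cX_inj e8T (frb_TT hs) hs fun i => ?_
    rw [cX_frb hs, hsx]
    rw [← zpow_natCast, ← _root_.zpow_mul]
    refine neg_one_zpow_eq ⟨fz e (sr i), ?_⟩
    push_cast
    ring
  have hfz : frb8 (z * s * z⁻¹) = z * s * z⁻¹ := by
    have h1 : frb8 z = z * n := by rw [hnz]; group
    rw [map_mul, map_mul, map_inv, hfs, h1]
    calc z * n * s * (z * n)⁻¹ = z * (n * s * n⁻¹) * z⁻¹ := by group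
      _ = z * s * z⁻¹ := by rw [hsn]
  obtain ⟨g, hg⟩ := H857.E8L.fix _ hfz
  refine ⟨g, s, ?_, hg, fun v hv => comm_of_char hs (fun μ hμ => ?_) hv, ?_⟩
  · rintro rfl
    rw [map_one] at hg
    have hs1 : s = 1 := by
      have : z⁻¹ * 1 * z = s := by rw [hg]; group
      rw [← this]; group
    have h1 := hsx (sr ⟨i, hi⟩)
    have h2 : cX e8T (1 : GK) (sr ⟨i, hi⟩) = 1 := by
      have hr : Rt (sr ⟨i, hi⟩) := isRoot_sr cs8 e8T.isCartan _
      obtain ⟨r, hr'⟩ := exists_idx hr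
      have ht1 : (1 : GK) ∈ TT chevE8 K8 := one_mem _
      have a1 := mx_torus ht1
      have a2 := congrFun (congrFun a1 (Sum.inr r)) (Sum.inr r)
      rw [Matrix.diagonal_apply_eq, wt_inr, hr'] at a2
      rw [← a2]
      exact Matrix.one_apply_eq _
    rw [hs1, h2, fz_sr] at h1
    have h3 : (-1 : K8) ^ e.getD i 0 = (-1 : K8) ^ (1 : ℤ) := neg_one_zpow_eq (by omega)
    have h4 : (1 : K8) = -1 := by
      have : (1 : K8) = (-1 : K8) ^ e.getD i 0 := h1
      rw [h3, zpow_one] at this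
      exact this
    have h5 : ((2 : ℕ) : K8) = 0 := by
      push_cast
      linear_combination h4
    rw [CharP.cast_eq_zero_iff K8 3] at h5
    omega
  · rw [hsx]
    have h1 := neg_one_zpow_eq (a := fz e μ) (b := 0) (by rw [sub_zero]; exact hP μ hμ)
    rw [h1, zpow_zero]
  · calc s * n0 = (n0 * s * n0⁻¹) * n0 := by rw [hsn0]
      _ = n0 * s := by group

end Cfsg.Agent.H288.E8L
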