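import Mathlib
import Cfsg.Agent.H288.E8L.TabMain

/-!
# The third regular case
-/

set_option autoImplicit false
set_option linter.unusedSectionVars false
set_option maxRecDepth 100000

namespace Cfsg.Agent.H288.E8L

open CoxeterSystem Cfsg Cfsg.Lie Cfsg.Lie.ChevalleyDatum
open Cfsg.Agent.ChevalleyStructure Cfsg.Agent.ChevalleyStructure.Elts Cfsg.Agent.ChevalleyStructure.CoxeterGeom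
  Cfsg.Agent.ChevalleyStructure.CoxeterGeomTypes Cfsg.Agent.ChevalleyStructure.RootVec
  Cfsg.Agent.ChevalleyStructure.RootVecTab
open Cfsg.Agent.Tits.Roots Cfsg.Agent.Tits.Core Cfsg.Agent.Nodes Cfsg.Agent.Nodes.Reps Cfsg.Agent.Nodes.BNOf
  Cfsg.Agent.Nodes.RGDChev
open Cfsg.Agent.GpExc.Field Cfsg.Agent.BpExc.TowChev Cfsg.Agent.H129.TorusChar
open Cfsg.Agent.KFacts.RgdChevCoord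
open Cfsg.Agent.H942.E8Tab Cfsg.Agent.H942.E8Alc Cfsg.Agent.H942.CB Cfsg.Agent.H944.Tab Cfsg.Agent.H944.Kac
open Matrix

/-- the data of case 6 -/
def D6 : Dat where
  Y := [1, 2, 2, 1, 1, 1, 1, 1]
  w := [4, 3, 0, 2, 1, 3, 4, 5, 6, 7, 6, 5, 4, 3, 2, 1, 3, 4, 5, 6, 0, 2, 3, 4, 5, 1, 3, 4, 2, 3, 0, 2, 1, 3, 4, 5, 6, 7, 5, 6, 3, 4, 5, 1, 3, 4, 2, 3, 0, 2, 1, 3, 4, 5, 6, 1, 3, 4, 2, 3, 0, 2, 1, 3, 4, 5, 4, 3, 2, 1, 3, 4, 0, 2, 3, 1]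
  ix := [120, 136, 156, 78, 121, 128, 172, 45, 123, 142, 5, 231, 126, 163, 151, 57, 130, 132, 175, 50, 162, 125, 154, 52, 162, 125, 154, 52]
  RV := [[0, 0, 0, 0, 0, 0, 0, 1], [0, 0, 1, 1, 0, 0, 0, 0], [0, 1, 1, 2, 2, 1, 0, 0], [0, -1, -1, -2, -2, -2, -2, -1], [0, 0, 0, 0, 0, 0, 1, 0], [0, 0, 0, 0, 1, 1, 1, 0], [1, 1, 1, 1, 1, 1, 1, 0], [-1, -1, -2, -3, -2, -1, 0, 0], [0, 0, 0, 0, 0, 1, 0, 0], [0, 1, 0, 1, 0, 0, 0, 0], [-2, -3, -4, -5, -4, -3, -2, -1], [2, 2, 3, 5, 4, 3, 2, 1], [0, 0, 0, 0, 1, 0, 0, 0], [1, 0, 1, 0, 0, 0, 0, 0], [0, 1, 1, 1, 1, 1, 1, 1], [-1, -1, -1, -2, -2, -2, -1, -1], [0, 0, 0, 1, 0, 0, 0, 0], [0, 0, 0, 1, 1, 1, 0, 0], [1, 1, 1, 2, 1, 1, 0, 0], [-1, -1, -2, -2, -2, -1, -1, 0], [1, 0, 0, 0, 0, 0, 0, 0], [0, 0, 0, 0, 0, 1, 1,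 1], [0, 1, 1, 2, 1, 1, 1, 0], [-1, -1, -2, -2, -1, -1, -1, -1], [1, 0, 0, 0, 0, 0, 0, 0], [0, 0, 0, 0, 0, 1, 1, 1], [0, 1, 1, 2, 1, 1, 1, 0], [-1, -1, -2, -2, -1, -1, -1, -1]]

/-- the certificates of case 6 -/
def C6 : List Crt := [.eps [1, 1, 1, 1, 0, 0, 1, 0],
  .eps [1, 1, 1, 1, 0, 0, 1, 0],
  .eps [0, 1, 1, 0, 1, 1, 0, 1],
  .unq 0 5 129 [-24, 27, 45, -42, 26, -25, 2, 2],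
  .eps [1, 1, 1, 1, 0, 0, 1, 0],
  .eps [1, 1, 1, 1, 0, 0, 1, 0],
  .hw 162 [-1, -15, -34, 16, 7, 12, 18, -2],
  .dep [3, 3, 3, 3, 2, 2, 2, 2, 1, 1, 1, 1],
  .eps [1, 1, 1, 1, 0, 0, 1, 0],
  .eps [1, 1, 1, 1, 0, 0, 1, 0],
  .hw 135 [2, 4, -1, -5, 1, -3, 6, 1],
  .unq 0 5 129 [-24, 27, 45, -42, 26, -25, 2, 2],
  .eps [1, 1, 1, 1, 0, 0, 1, 0],
  .eps [1, 1, 1, 1, 0, 0, 1, 0],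
  .dep [0, 0, 0, 0, 1, 1, 1, 1, 1, 1, 1, 1],
  .dep [0, 0, 0, 0, 0, 0, 0, 0, 1, 1, 1, 1, 1, 1, 1, 1],
  .eps [0, 1, 1, 0, 1, 1, 0, 1],
  .hw 123 [-1, 0, -1, 2, 0, -1, -4, 1],
  .eps [0, 1, 1, 0, 1, 1, 0, 1],
  .dep [4, 4, 4, 4, 3, 3, 3, 3, 1, 1, 1, 1],
  .hw 120 [2, -11, -17, 12, 4, 4, 2, -1],
  .skip,
  .hw 162 [-1, -16, -35, 17, 7, 12, 17, -2],
  .dep [3, 3, 3, 3, 2, 2, 2, 2, 1, 1, 1, 1, 0, 0, 0, 0],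
  .unq 16 13 164 [-7, 4, 8, 1, 1, 0, -18, 8],
  .unq 16 13 164 [-7, 4, 8, 1, 1, 0, -18, 8],
  .dep [1, 1, 1, 1, 4, 4, 4, 4, 3, 3, 3, 3],
  .dep [4, 4, 4, 4, 3, 3, 3, 3, 0, 0, 0, 0, 1, 1, 1, 1],
  .dep [1, 1, 1, 1, 1, 1, 1, 1, 0, 0, 0, 0],
  .dep [0, 0, 0, 0, 1, 1, 1, 1, 1, 1, 1, 1, 0, 0, 0, 0],
  .dep [0, 0, 0, 0, 1, 1, 1, 1, 1, 1, 1, 1, 0, 0, 0, 0],
  .dep [0, 0, 0, 0, 0, 0, 0, 0, 1, 1, 1, 1, 1, 1, 1, 1, 0, 0, 0, 0],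
  .eps [0, 1, 1, 0, 1, 1, 0, 1],
  .unq 20 1 164 [1, 3, -8, 9, -8, 8, -8, 1],
  .eps [0, 1, 1, 0, 1, 1, 0, 1],
  .dep [2, 2, 2, 2, 1, 1, 1, 1, 1, 1, 1, 1],
  .unq 20 22 176 [2, -28, -49, 31, 17, 8, -7, 12],
  .unq 20 1 164 [1, -17, -28, 29, -6, 24, -28, 5],
  .unq 20 22 176 [5, 2, -70, 4, 29, 20, 14, 9],
  .dep [3, 3, 3, 3, 2, 2, 2, 2, 1, 1, 1, 1, 0, 0, 0, 0],
  .unq 12 21 129 [1, 7, 0, -6, 1, -1, 8, -6],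
  .dep [1, 1, 1, 1, 1, 1, 1, 1, 2, 2, 2, 2],
  .unq 12 21 129 [1, 7, 0, -6, 1, -1, 8, -6],
  .dep [2, 2, 2, 2, 1, 1, 1, 1, 0, 0, 0, 0, 1, 1, 1, 1],
  .dep [1, 1, 1, 1, 1, 1, 1, 1, 0, 0, 0, 0],
  .dep [0, 0, 0, 0, 1, 1, 1, 1, 1, 1, 1, 1, 0, 0, 0, 0],
  .dep [0, 0, 0, 0, 1, 1, 1, 1, 1, 1, 1, 1, 0, 0, 0, 0],
  .dep [0, 0, 0, 0, 0, 0, 0, 0, 1, 1, 1, 1, 1, 1, 1, 1, 0, 0, 0, 0],
  .eps [0, 1, 1, 0, 1, 1, 0, 1],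
  .unq 20 1 164 [1, 3, -8, 9, -8, 8, -8, 1],
  .eps [0, 1, 1, 0, 1, 1, 0, 1],
  .dep [4, 4, 4, 4, 3, 3, 3, 3, 1, 1, 1, 1, 0, 0, 0, 0],
  .unq 20 22 176 [2, -28, -49, 31, 17, 8, -7, 12],
  .unq 20 1 164 [1, -17, -28, 29, -6, 24, -28, 5],
  .hw 146 [15, -14, -24, 16, -4, 3, 10, -12],
  .dep [3, 3, 3, 3, 2, 2, 2, 2, 1, 1, 1, 1, 0, 0, 0, 0, 0, 0, 0, 0],
  .dep [2, 2, 2, 2, 1, 1, 1, 1, 1, 1, 1, 1],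
  .dep [1, 1, 1, 1, 1, 1, 1, 1, 0, 0, 0, 0, 2, 2, 2, 2],
  .dep [1, 1, 1, 1, 4, 4, 4, 4, 3, 3, 3, 3, 0, 0, 0, 0],
  .dep [4, 4, 4, 4, 3, 3, 3, 3, 0, 0, 0, 0, 1, 1, 1, 1, 0, 0, 0, 0],
  .dep [1, 1, 1, 1, 1, 1, 1, 1, 0, 0, 0, 0, 0, 0, 0, 0],
  .dep [0, 0, 0, 0, 1, 1, 1, 1, 1, 1, 1, 1, 0, 0, 0, 0, 0, 0, 0, 0],
  .dep [0, 0, 0, 0, 1, 1, 1, 1, 1, 1, 1, 1, 0, 0, 0, 0, 0, 0, 0, 0],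
  .dep [0, 0, 0, 0, 0, 0, 0, 0, 1, 1, 1, 1, 1, 1, 1, 1, 0, 0, 0, 0, 0, 0, 0, 0],
  .eps [0, 1, 1, 0, 1, 1, 0, 1],
  .unq 24 1 164 [1, 3, -8, 9, -8, 8, -8, 1],
  .eps [0, 1, 1, 0, 1, 1, 0, 1],
  .dep [2, 2, 2, 2, 1, 1, 1, 1, 1, 1, 1, 1],
  .unq 24 26 176 [2, -28, -49, 31, 17, 8, -7, 12],
  .unq 24 1 164 [1, -17, -28, 29, -6, 24, -28, 5],
  .unq 24 26 176 [5, 2, -70, 4, 29, 20, 14, 9],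
  .dep [3, 3, 3, 3, 2, 2, 2, 2, 1, 1, 1, 1, 0, 0, 0, 0],
  .unq 12 25 129 [1, 7, 0, -6, 1, -1, 8, -6],
  .dep [1, 1, 1, 1, 1, 1, 1, 1, 2, 2, 2, 2],
  .unq 12 25 129 [1, 7, 0, -6, 1, -1, 8, -6],
  .dep [2, 2, 2, 2, 1, 1, 1, 1, 0, 0, 0, 0, 1, 1, 1, 1],
  .dep [1, 1, 1, 1, 1, 1, 1, 1, 0, 0, 0, 0],
  .dep [0, 0, 0, 0, 1, 1, 1, 1, 1, 1, 1, 1, 0, 0, 0, 0],
  .dep [0, 0, 0, 0, 1, 1, 1, 1, 1, 1, 1, 1, 0, 0, 0, 0],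
  .dep [0, 0, 0, 0, 0, 0, 0, 0, 1, 1, 1, 1, 1, 1, 1, 1, 0, 0, 0, 0],
  .eps [0, 1, 1, 0, 1, 1, 0, 1],
  .unq 24 1 164 [1, 3, -8, 9, -8, 8, -8, 1],
  .eps [0, 1, 1, 0, 1, 1, 0, 1],
  .dep [4, 4, 4, 4, 3, 3, 3, 3, 1, 1, 1, 1, 0, 0, 0, 0],
  .unq 24 26 176 [2, -28, -49, 31, 17, 8, -7, 12],
  .unq 24 1 164 [1, -17, -28, 29, -6, 24, -28, 5],
  .hw 146 [15, -14, -24, 16, -4, 3, 10, -12],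
  .dep [3, 3, 3, 3, 2, 2, 2, 2, 1, 1, 1, 1, 0, 0, 0, 0, 0, 0, 0, 0],
  .dep [2, 2, 2, 2, 1, 1, 1, 1, 1, 1, 1, 1],
  .dep [1, 1, 1, 1, 1, 1, 1, 1, 0, 0, 0, 0, 2, 2, 2, 2],
  .dep [1, 1, 1, 1, 4, 4, 4, 4, 3, 3, 3, 3, 0, 0, 0, 0],
  .dep [4, 4, 4, 4, 3, 3, 3, 3, 0, 0, 0, 0, 1, 1, 1, 1, 0, 0, 0, 0],
  .dep [1, 1, 1, 1, 1, 1, 1, 1, 0, 0, 0, 0, 0, 0, 0, 0],
  .dep [0, 0, 0, 0, 1, 1, 1, 1, 1, 1, 1, 1, 0, 0, 0, 0, 0, 0, 0, 0],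
  .dep [0, 0, 0, 0, 1, 1, 1, 1, 1, 1, 1, 1, 0, 0, 0, 0, 0, 0, 0, 0],
  .dep [0, 0, 0, 0, 0, 0, 0, 0, 1, 1, 1, 1, 1, 1, 1, 1, 0, 0, 0, 0, 0, 0, 0, 0],
  .eps [0, 1, 1, 0, 1, 1, 0, 1],
  .unq 20 1 164 [1, 3, -8, 9, -8, 8, -8, 1],
  .eps [0, 1, 1, 0, 1, 1, 0, 1],
  .dep [2, 2, 2, 2, 1, 1, 1, 1, 1, 1, 1, 1, 0, 0, 0, 0],
  .unq 20 22 176 [2, -28, -49, 31, 17, 8, -7, 12],
  .unq 20 1 164 [1, -17, -28, 29, -6, 24, -28, 5],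
  .unq 20 22 176 [5, 2, -70, 4, 29, 20, 14, 9],
  .dep [3, 3, 3, 3, 2, 2, 2, 2, 1, 1, 1, 1, 0, 0, 0, 0, 0, 0, 0, 0],
  .unq 12 21 129 [1, 7, 0, -6, 1, -1, 8, -6],
  .dep [1, 1, 1, 1, 1, 1, 1, 1, 2, 2, 2, 2, 0, 0, 0, 0],
  .unq 12 21 129 [1, 7, 0, -6, 1, -1, 8, -6],
  .dep [2, 2, 2, 2, 1, 1, 1, 1, 0, 0, 0, 0, 1, 1, 1, 1, 0, 0, 0, 0],
  .dep [1, 1, 1, 1, 1, 1, 1, 1, 0, 0, 0, 0, 0, 0, 0, 0],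
  .dep [0, 0, 0, 0, 1, 1, 1, 1, 1, 1, 1, 1, 0, 0, 0, 0, 0, 0, 0, 0],
  .dep [0, 0, 0, 0, 1, 1, 1, 1, 1, 1, 1, 1, 0, 0, 0, 0, 0, 0, 0, 0],
  .dep [0, 0, 0, 0, 0, 0, 0, 0, 1, 1, 1, 1, 1, 1, 1, 1, 0, 0, 0, 0, 0, 0, 0, 0],
  .eps [0, 1, 1, 0, 1, 1, 0, 1],
  .unq 20 1 164 [1, 3, -8, 9, -8, 8, -8, 1],
  .eps [0, 1, 1, 0, 1, 1, 0, 1],
  .dep [4, 4, 4, 4, 3, 3, 3, 3, 1, 1, 1, 1, 0, 0, 0, 0, 0, 0, 0, 0],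
  .unq 20 22 176 [2, -28, -49, 31, 17, 8, -7, 12],
  .unq 20 1 164 [1, -17, -28, 29, -6, 24, -28, 5],
  .hw 146 [15, -14, -24, 16, -4, 3, 10, -12],
  .dep [3, 3, 3, 3, 2, 2, 2, 2, 1, 1, 1, 1, 0, 0, 0, 0, 0, 0, 0, 0, 0, 0, 0, 0],
  .dep [2, 2, 2, 2, 1, 1, 1, 1, 1, 1, 1, 1, 0, 0, 0, 0],
  .dep [1, 1, 1, 1, 1, 1, 1, 1, 0, 0, 0, 0, 2, 2, 2, 2, 0, 0, 0, 0],
  .dep [1, 1, 1, 1, 4, 4, 4, 4, 3, 3, 3, 3, 0, 0, 0, 0, 0, 0, 0, 0],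
  .dep [4, 4, 4, 4, 3, 3, 3, 3, 0, 0, 0, 0, 1, 1, 1, 1, 0, 0, 0, 0, 0, 0, 0, 0],
  .dep [1, 1, 1, 1, 1, 1, 1, 1, 0, 0, 0, 0, 0, 0, 0, 0, 0, 0, 0, 0],
  .dep [0, 0, 0, 0, 1, 1, 1, 1, 1, 1, 1, 1, 0, 0, 0, 0, 0, 0, 0, 0, 0, 0, 0, 0],
  .dep [0, 0, 0, 0, 1, 1, 1, 1, 1, 1, 1, 1, 0, 0, 0, 0, 0, 0, 0, 0, 0, 0, 0, 0],
  .dep [0, 0, 0, 0, 0, 0, 0, 0, 1, 1, 1, 1, 1, 1, 1, 1, 0, 0, 0, 0, 0, 0, 0, 0, 0, 0, 0, 0]]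

theorem g6 : chkG D6 = true := by decide +kernel

theorem c6 : ((List.range 128).all fun m => (m == 21) || chkC D6 m (C6.getD m .skip)) = true := by decide +kernel

/-- the check for the second highest weight argument -/
def chkH (D : Dat) (m ib k : ℕ) (l : List ℤ) : Bool :=
  decide (ib < 240) && decide (k < 28) && m.testBit (k / 4) &&
  ((sup D m).all fun r => decide (0 ≤ H943.LatFix.ip (cartanOf chevE8 8) (toV (vl ib)) (toV r))) &&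
  decide (H943.LatFix.ip (cartanOf chevE8 8) (toV (vl ib)) (toV (D.RV.getD k [])) = 1) &&
  ((sup D m).all fun r => decide (0 ≤ dt l r)) && decide (2 * dt l (vl ib) - dt l (D.RV.getD k []) < 0)

theorem h6 : chkH D6 21 120 19 [11, -19, -19, 21, 2, 1, -9, 1] = true := by decide +kernel

section C

variable {W : Subgroup GK} {f : Q8 →+ ℤ} (hW : ∀ g ∈ W, Uni f (mx g)) (hc : ∀ g ∈ W, ∀ g' ∈ W, g * g' = g' * g)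
  {F : Type} [Field F] (ι : F →+* K8) (u : F → GK) (hu : ∀ x, u x ∈ W)
  (hι : ∀ i j, i < 4 → j < 4 → (∀ y : F, ι y ^ 3 ^ i = ι y ^ 3 ^ j) → i = j)
  (hb : ∀ s : Fin chevE8.nroots, (∀ a ∈ Ind W, 0 ≤ H943.LatFix.ip (cartanOf chevE8 8) (vec chevE8 8 s) a) →
      (2 : ℤ) • vec chevE8 8 s ∈ CL W)
  (hb2 : ∀ s s' : Fin chevE8.nroots, (∀ a ∈ Ind W, 0 ≤ H943.LatFix.ip (cartanOf chevE8 8) (vec chevE8 8 s) a) →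
      vec chevE8 8 s' ∈ Ind W → cf s' (mx (u 1)) ≠ 0 →
      H943.LatFix.ip (cartanOf chevE8 8) (vec chevE8 8 s) (vec chevE8 8 s') = 1 →
      (2 : ℤ) • vec chevE8 8 s - vec chevE8 8 s' ∈ CL W)

include hW hb2 in
theorem sound_hw2 {D : Dat} (hG : Geo D) {m : ℕ} (hS : ∀ a, a ∈ Ind W ↔ ∃ r ∈ sup D m, toV r = a)
    (hcf : ∀ k < 28, m.testBit (k / 4) = true →
      ∃ c : K8, c ≠ 0 ∧ ∀ x, cf (fi (D.ix.getD k 0)) (mx (u x)) = c * ι x ^ 3 ^ (k % 4))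
    {ib k : ℕ} {l : List ℤ} (h : chkH D m ib k l = true) : False := by
  unfold chkH at h
  simp only [Bool.and_eq_true, decide_eq_true_eq, List.all_eq_true] at h
  obtain ⟨⟨⟨⟨⟨⟨h1, hk⟩, hbit⟩, h2⟩, h3⟩, h4⟩, h5⟩ := h
  have e1 := okD_toV hG.okD hk
  have m1 : D.RV.getD k [] ∈ sup D m := mem_sup.2 ⟨k, hk, hbit, rfl⟩
  obtain ⟨c, hc0, hc1⟩ := hcf k hk hbit
  have h6 := hb2 ⟨ib, h1⟩ (fi (D.ix.getD k 0)) (fun a ha => by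
    obtain ⟨r, hr, rfl⟩ := (hS a).1 ha
    have := h2 r hr
    rwa [toV_vl] at this) ((hS _).2 ⟨_, m1, e1⟩) (by
      rw [hc1, map_one, one_pow, mul_one]
      exact hc0) (by
      rw [toV_vl, e1] at h3
      exact h3)
  have h7 : ∀ x ∈ CL W, 0 ≤ fz l x := by
    refine cl_ind hW (by unfold fz; simp) (fun a ha => ?_) fun x y hx hy => by rw [fz_add]; omega
    obtain ⟨r, hr, rfl⟩ := (hS a).1 ha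
    have := h4 r hr
    rwa [dt_fz (len_sup hG.okD r hr).le] at this
  have h8 := h7 _ h6
  have hl : (D.RV.getD k []).length = 8 := len_sup hG.okD _ m1
  rw [fz_sub, fz_smul] at h8
  rw [dt_fz (by simp [vl]), dt_fz hl.le, toV_vl, e1] at h5
  have e2 : fz l (vec chevE8 8 ib) = fz l (vec chevE8 8 (⟨ib, h1⟩ : Fin chevE8.nroots).val) := rfl
  omega

include hW hc hu hι hb hb2

theorem concl6 {m : ℕ} (hm : m < 128) (hS : ∀ a, a ∈ Ind W ↔ ∃ r ∈ sup D6 m, toV r = a)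
    (hcf : ∀ k < 28, m.testBit (k / 4) = true →
      ∃ c : K8, c ≠ 0 ∧ ∀ x, cf (fi (D6.ix.getD k 0)) (mx (u x)) = c * ι x ^ 3 ^ (k % 4)) : Concl W D6 := by
  have h := c6
  rw [List.all_eq_true] at h
  have h1 := h m (List.mem_range.2 hm)
  rw [Bool.or_eq_true] at h1
  rcases h1 with h1 | h1
  · exfalso
    have h21 : m = 21 := by simpa using h1
    subst h21
    exact sound_hw2 hW ι u hb2 (geo_of g6) hS hcf h6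
  · exact sound hW hc (geo_of g6) hS ι u hu hι hcf hb h1

end C

end Cfsg.Agent.H288.E8L
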