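import Mathlib
import Cfsg.Agent.H288.E8L.Tab

/-!
# The tables of the two regular cases
-/

set_option autoImplicit false
set_option linter.unusedSectionVars false
set_option maxRecDepth 100000

namespace Cfsg.Agent.H288.E8L

open CoxeterSystem Cfsg Cfsg.Lie Cfsg.Lie.ChevalleyDatum
open Cfsg.Agent.ChevalleyStructure Cfsg.Agent.ChevalleyStructure.Elts Cfsg.Agent.ChevalleyStructure.CoxeterGeom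
  Cfsg.Agent.ChevalleyStructure.CoxeterGeomTypes Cfsg.Agent.ChevalleyStructure.RootVec
  Cfsg.Agent.ChevalleyStructure.RootVecTab
open Cfsg.Agent.Tits.Roots Cfsg.Agent.Tits.Core Cfsg.Agent.Nodes Cfsg.Agent.Nodes.Reps Cfsg.Agent.Nodes.BNOf
  Cfsg.Agent.Nodes.RGDChev
open Cfsg.Agent.GpExc.Field Cfsg.Agent.BpExc.TowChev Cfsg.Agent.H129.TorusChar
open Cfsg.Agent.KFacts.RgdChevCoord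
open Cfsg.Agent.H942.E8Tab Cfsg.Agent.H942.E8Alc Cfsg.Agent.H942.CB Cfsg.Agent.H944.Tab Cfsg.Agent.H944.Kac
open Matrix

/-- the data of case 5 -/
def D5 : Dat where
  Y := [3, 1, 1, 1, 1, 1, 1, 1]
  w := [5, 4, 2, 3, 0, 2, 1, 3, 4, 5, 6, 7, 4, 2, 3, 0, 2, 1, 3, 4, 5, 6, 5, 4, 3, 2, 1, 3, 4, 5, 0, 2, 3, 4, 1, 3, 2, 0]
  ix := [120, 143, 172, 35, 121, 125, 158, 233, 123, 137, 175, 57, 126, 162, 2, 44, 130, 147, 159, 232, 135, 132, 184, 49, 141, 128, 168, 48]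
  RV := [[0, 0, 0, 0, 0, 0, 0, 1], [0, 1, 0, 1, 1, 0, 0, 0], [1, 1, 1, 1, 1, 1, 1, 0], [-1, -2, -2, -3, -2, -1, 0, 0], [0, 0, 0, 0, 0, 0, 1, 0], [0, 0, 0, 0, 0, 1, 1, 1], [0, 1, 1, 2, 2, 1, 1, 1], [2, 3, 3, 5, 4, 3, 2, 1], [0, 0, 0, 0, 0, 1, 0, 0], [0, 0, 1, 1, 1, 0, 0, 0], [1, 1, 1, 2, 1, 1, 0, 0], [-1, -1, -1, -2, -2, -2, -1, -1], [0, 0, 0, 0, 1, 0, 0, 0], [1, 0, 0, 0, 0, 0, 0, 0], [-2, -3, -4, -6, -5, -4, -2, -1], [-1, -1, -2, -3, -2, -1, -1, 0], [0, 0, 0, 1, 0, 0, 0, 0], [0, 1, 1, 1, 0, 0, 0, 0], [0, 1, 1, 2, 2, 2, 1, 0], [2, 2, 4, 5, 4, 3, 2, 1], [0, 0, 1, 0, 0, 0, 0, 0], [0, 0, 0, 1, 1, 1, 0, 0], [1, 1, 2, 2, 1, 0, 0, 0], [-1, -1, -2, -2, -2, -1, -1, -1], [0, 1, 0, 0, 0, 0, 0, 0], [0, 0, 0, 0, 1, 1,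 1, 0], [1, 0, 1, 1, 1, 1, 1, 1], [-1, -1, -2, -2, -2, -2, -1, 0]]

/-- the certificates of case 5 -/
def C5 : List Crt := [.eps [1, 0, 0, 1, 1, 0, 1, 0],
  .eps [1, 0, 0, 1, 1, 0, 1, 0],
  .eps [0, 1, 1, 0, 0, 1, 0, 1],
  .unq 0 2 173 [-8, -5, -14, 4, 10, 7, 13, 4],
  .eps [1, 0, 0, 1, 1, 0, 1, 0],
  .eps [1, 0, 0, 1, 1, 0, 1, 0],
  .unq 8 9 138 [-13, 14, 8, 5, -12, 1, 10, -8],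
  .dep [1, 1, 1, 1, 0, 0, 0, 0, 1, 1, 1, 1],
  .eps [0, 1, 1, 0, 0, 1, 0, 1],
  .unq 0 2 173 [8, 17, -13, -13, 2, -10, 11, 2],
  .eps [0, 1, 1, 0, 0, 1, 0, 1],
  .unq 12 5 129 [45, 60, -81, 15, 2, -64, 65, 2],
  .unq 8 9 138 [9, 0, -4, 5, 2, 2, -27, -9],
  .dep [1, 1, 1, 1, 1, 1, 1, 1, 0, 0, 0, 0],
  .dep [1, 1, 1, 1, 2, 2, 2, 2, 1, 1, 1, 1],
  .dep [1, 1, 1, 1, 0, 0, 0, 0, 1, 1, 1, 1, 0, 0, 0, 0],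
  .eps [0, 1, 1, 0, 0, 1, 0, 1],
  .unq 0 2 173 [-53, -23, 7, 19, 7, -5, 49, 1],
  .eps [0, 1, 1, 0, 0, 1, 0, 1],
  .unq 0 2 173 [-37, -7, -7, 17, -7, 8, 35, 2],
  .unq 8 9 138 [3, 9, 19, 4, -20, 4, 9, -21],
  .dep [1, 1, 1, 1, 1, 1, 1, 1, 0, 0, 0, 0],
  .unq 8 9 138 [-21, 30, 29, 11, -37, 2, 30, -24],
  .dep [1, 1, 1, 1, 0, 0, 0, 0, 1, 1, 1, 1, 0, 0, 0, 0],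
  .eps [0, 1, 1, 0, 0, 1, 0, 1],
  .dep [0, 0, 0, 0, 1, 1, 1, 1, 1, 1, 1, 1],
  .eps [0, 1, 1, 0, 0, 1, 0, 1],
  .dep [0, 0, 0, 0, 0, 0, 0, 0, 1, 1, 1, 1, 1, 1, 1, 1],
  .dep [0, 0, 0, 0, 1, 1, 1, 1, 1, 1, 1, 1],
  .dep [1, 1, 1, 1, 1, 1, 1, 1, 0, 0, 0, 0, 0, 0, 0, 0],
  .dep [0, 0, 0, 0, 0, 0, 0, 0, 1, 1, 1, 1, 1, 1, 1, 1],
  .dep [1, 1, 1, 1, 0, 0, 0, 0, 1, 1, 1, 1, 0, 0, 0, 0, 0, 0, 0, 0],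
  .eps [1, 0, 0, 1, 1, 0, 1, 0],
  .eps [1, 0, 0, 1, 1, 0, 1, 0],
  .unq 4 21 133 [-36, 54, 3, 13, -32, 22, 4, -18],
  .dep [1, 1, 1, 1, 0, 0, 0, 0, 1, 1, 1, 1],
  .eps [1, 0, 0, 1, 1, 0, 1, 0],
  .eps [1, 0, 0, 1, 1, 0, 1, 0],
  .unq 4 21 133 [-63, 45, 12, 44, -52, 11, 2, -9],
  .dep [1, 1, 1, 1, 0, 0, 0, 0, 1, 1, 1, 1, 0, 0, 0, 0],
  .unq 20 13 163 [1, 0, 1, 6, 3, -6, -24, -3],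
  .dep [1, 1, 1, 1, 0, 0, 0, 0, 1, 1, 1, 1],
  .dep [1, 1, 1, 1, 1, 1, 1, 1, 2, 2, 2, 2],
  .dep [1, 1, 1, 1, 0, 0, 0, 0, 0, 0, 0, 0, 1, 1, 1, 1],
  .unq 20 13 163 [1, 6, 1, 6, 3, 3, -39, -15],
  .dep [1, 1, 1, 1, 1, 1, 1, 1, 0, 0, 0, 0, 0, 0, 0, 0],
  .dep [1, 1, 1, 1, 2, 2, 2, 2, 1, 1, 1, 1, 0, 0, 0, 0],
  .dep [1, 1, 1, 1, 0, 0, 0, 0, 1, 1, 1, 1, 0, 0, 0, 0, 0, 0, 0, 0],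
  .unq 20 21 138 [3, 6, 2, 14, -19, 8, 6, -27],
  .dep [1, 1, 1, 1, 0, 0, 0, 0, 1, 1, 1, 1],
  .unq 4 21 133 [-27, 42, 9, 35, -58, 26, 2, -24],
  .dep [1, 1, 1, 1, 0, 0, 0, 0, 0, 0, 0, 0, 1, 1, 1, 1],
  .hw 154 [4, -6, 5, 2, -1, 5, -8, -12],
  .dep [1, 1, 1, 1, 1, 1, 1, 1, 0, 0, 0, 0, 0, 0, 0, 0],
  .unq 4 21 133 [-54, 33, 27, 47, -70, 26, 2, -24],
  .dep [1, 1, 1, 1, 0, 0, 0, 0, 1, 1, 1, 1, 0, 0, 0, 0, 0, 0, 0, 0],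
  .dep [1, 1, 1, 1, 1, 1, 1, 1, 0, 0, 0, 0],
  .dep [1, 1, 1, 1, 0, 0, 0, 0, 0, 0, 0, 0, 1, 1, 1, 1],
  .dep [0, 0, 0, 0, 1, 1, 1, 1, 1, 1, 1, 1, 0, 0, 0, 0],
  .dep [1, 1, 1, 1, 0, 0, 0, 0, 0, 0, 0, 0, 0, 0, 0, 0, 1, 1, 1, 1],
  .dep [0, 0, 0, 0, 1, 1, 1, 1, 1, 1, 1, 1, 0, 0, 0, 0],
  .dep [1, 1, 1, 1, 1, 1, 1, 1, 0, 0, 0, 0, 0, 0, 0, 0, 0, 0, 0, 0],
  .dep [0, 0, 0, 0, 0, 0, 0, 0, 1, 1, 1, 1, 1, 1, 1, 1, 0, 0, 0, 0],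
  .dep [1, 1, 1, 1, 0, 0, 0, 0, 1, 1, 1, 1, 0, 0, 0, 0, 0, 0, 0, 0, 0, 0, 0, 0],
  .eps [1, 0, 0, 1, 1, 0, 1, 0],
  .eps [1, 0, 0, 1, 1, 0, 1, 0],
  .unq 24 26 173 [-8, 1, -23, 19, 7, -11, 7, 10],
  .unq 0 25 129 [9, 3, -15, 12, -11, -5, 19, 4],
  .eps [1, 0, 0, 1, 1, 0, 1, 0],
  .eps [1, 0, 0, 1, 1, 0, 1, 0],
  .dep [0, 0, 0, 0, 1, 1, 1, 1, 1, 1, 1, 1],
  .dep [1, 1, 1, 1, 0, 0, 0, 0, 1, 1, 1, 1, 0, 0, 0, 0],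
  .unq 24 26 173 [7, 1, -5, -17, 1, -5, 7, 13],
  .unq 0 25 129 [18, 6, -9, -6, 2, -10, 11, 2],
  .unq 12 5 129 [20, 25, -20, -5, 3, -18, 18, 5],
  .hw 190 [14, 21, -23, -2, 1, -11, 17, 6],
  .dep [1, 1, 1, 1, 0, 0, 0, 0, 1, 1, 1, 1],
  .dep [1, 1, 1, 1, 1, 1, 1, 1, 0, 0, 0, 0, 0, 0, 0, 0],
  .dep [0, 0, 0, 0, 1, 1, 1, 1, 0, 0, 0, 0, 1, 1, 1, 1],
  .dep [1, 1, 1, 1, 0, 0, 0, 0, 1, 1, 1, 1, 0, 0, 0, 0, 0, 0, 0, 0],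
  .unq 16 25 133 [-7, 6, -1, 1, 9, -11, 3, 20],
  .unq 0 25 129 [-8, 1, 0, 16, -15, -15, 31, 1],
  .unq 16 25 133 [-18, 21, -3, 2, 26, -34, 11, 60],
  .unq 0 25 129 [-9, 3, -12, 54, -52, -34, 89, 2],
  .dep [1, 1, 1, 1, 0, 0, 0, 0, 1, 1, 1, 1],
  .dep [1, 1, 1, 1, 1, 1, 1, 1, 0, 0, 0, 0, 0, 0, 0, 0],
  .dep [0, 0, 0, 0, 1, 1, 1, 1, 0, 0, 0, 0, 1, 1, 1, 1],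
  .dep [1, 1, 1, 1, 0, 0, 0, 0, 1, 1, 1, 1, 0, 0, 0, 0, 0, 0, 0, 0],
  .dep [1, 1, 1, 1, 1, 1, 1, 1, 0, 0, 0, 0],
  .dep [0, 0, 0, 0, 1, 1, 1, 1, 1, 1, 1, 1, 0, 0, 0, 0],
  .dep [0, 0, 0, 0, 1, 1, 1, 1, 1, 1, 1, 1, 0, 0, 0, 0],
  .dep [0, 0, 0, 0, 0, 0, 0, 0, 1, 1, 1, 1, 1, 1, 1, 1, 0, 0, 0, 0],
  .dep [1, 1, 1, 1, 0, 0, 0, 0, 0, 0, 0, 0, 1, 1, 1, 1],
  .dep [1, 1, 1, 1, 1, 1, 1, 1, 0, 0, 0, 0, 0, 0, 0, 0, 0, 0, 0, 0],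
  .dep [0, 0, 0, 0, 1, 1, 1, 1, 0, 0, 0, 0, 0, 0, 0, 0, 1, 1, 1, 1],
  .dep [1, 1, 1, 1, 0, 0, 0, 0, 1, 1, 1, 1, 0, 0, 0, 0, 0, 0, 0, 0, 0, 0, 0, 0],
  .eps [1, 0, 0, 1, 1, 0, 1, 0],
  .eps [1, 0, 0, 1, 1, 0, 1, 0],
  .dep [0, 0, 0, 0, 1, 1, 1, 1, 1, 1, 1, 1],
  .dep [1, 1, 1, 1, 0, 0, 0, 0, 1, 1, 1, 1, 0, 0, 0, 0],
  .eps [1, 0, 0, 1, 1, 0, 1, 0],
  .eps [1, 0, 0, 1, 1, 0, 1, 0],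
  .dep [0, 0, 0, 0, 1, 1, 1, 1, 0, 0, 0, 0, 1, 1, 1, 1],
  .dep [1, 1, 1, 1, 0, 0, 0, 0, 1, 1, 1, 1, 0, 0, 0, 0, 0, 0, 0, 0],
  .dep [0, 0, 0, 0, 1, 1, 1, 1, 1, 1, 1, 1],
  .dep [1, 1, 1, 1, 0, 0, 0, 0, 1, 1, 1, 1, 0, 0, 0, 0],
  .dep [0, 0, 0, 0, 0, 0, 0, 0, 1, 1, 1, 1, 1, 1, 1, 1],
  .dep [1, 1, 1, 1, 0, 0, 0, 0, 0, 0, 0, 0, 1, 1, 1, 1, 0, 0, 0, 0],
  .dep [1, 1, 1, 1, 0, 0, 0, 0, 0, 0, 0, 0, 1, 1, 1, 1],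
  .dep [1, 1, 1, 1, 1, 1, 1, 1, 0, 0, 0, 0, 0, 0, 0, 0, 0, 0, 0, 0],
  .dep [0, 0, 0, 0, 1, 1, 1, 1, 0, 0, 0, 0, 0, 0, 0, 0, 1, 1, 1, 1],
  .dep [1, 1, 1, 1, 0, 0, 0, 0, 1, 1, 1, 1, 0, 0, 0, 0, 0, 0, 0, 0, 0, 0, 0, 0],
  .dep [0, 0, 0, 0, 1, 1, 1, 1, 1, 1, 1, 1],
  .dep [1, 1, 1, 1, 0, 0, 0, 0, 1, 1, 1, 1, 0, 0, 0, 0],
  .dep [0, 0, 0, 0, 0, 0, 0, 0, 1, 1, 1, 1, 1, 1, 1, 1],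
  .dep [1, 1, 1, 1, 0, 0, 0, 0, 0, 0, 0, 0, 1, 1, 1, 1, 0, 0, 0, 0],
  .dep [1, 1, 1, 1, 0, 0, 0, 0, 0, 0, 0, 0, 1, 1, 1, 1],
  .dep [1, 1, 1, 1, 1, 1, 1, 1, 0, 0, 0, 0, 0, 0, 0, 0, 0, 0, 0, 0],
  .dep [0, 0, 0, 0, 1, 1, 1, 1, 0, 0, 0, 0, 0, 0, 0, 0, 1, 1, 1, 1],
  .dep [1, 1, 1, 1, 0, 0, 0, 0, 1, 1, 1, 1, 0, 0, 0, 0, 0, 0, 0, 0, 0, 0, 0, 0],
  .dep [1, 1, 1, 1, 1, 1, 1, 1, 0, 0, 0, 0, 0, 0, 0, 0],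
  .dep [1, 1, 1, 1, 0, 0, 0, 0, 0, 0, 0, 0, 1, 1, 1, 1, 0, 0, 0, 0],
  .dep [0, 0, 0, 0, 1, 1, 1, 1, 1, 1, 1, 1, 0, 0, 0, 0, 0, 0, 0, 0],
  .dep [1, 1, 1, 1, 0, 0, 0, 0, 0, 0, 0, 0, 0, 0, 0, 0, 1, 1, 1, 1, 0, 0, 0, 0],
  .dep [1, 1, 1, 1, 0, 0, 0, 0, 0, 0, 0, 0, 0, 0, 0, 0, 1, 1, 1, 1],
  .dep [1, 1, 1, 1, 1, 1, 1, 1, 0, 0, 0, 0, 0, 0, 0, 0, 0, 0, 0, 0, 0, 0, 0, 0],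
  .dep [0, 0, 0, 0, 1, 1, 1, 1, 0, 0, 0, 0, 0, 0, 0, 0, 0, 0, 0, 0, 1, 1, 1, 1],
  .dep [1, 1, 1, 1, 0, 0, 0, 0, 1, 1, 1, 1, 0, 0, 0, 0, 0, 0, 0, 0, 0, 0, 0, 0, 0, 0, 0, 0]]

/-- the data of case 7 -/
def D7 : Dat where
  Y := [1, 1, 1, 1, 1, 3, 1, 2]
  w := [2, 1, 3, 4, 5, 6, 7, 2, 1, 3, 4, 5, 6, 0, 2, 3, 4, 5, 1, 3, 4, 2, 3, 0, 2, 1, 3, 4, 5, 6, 7, 6, 2, 3, 4, 5, 1, 3, 4, 2, 3, 0, 2, 1, 3, 4, 5, 6]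
  ix := [121, 1, 154, 44, 126, 137, 156, 223, 130, 123, 172, 80, 135, 143, 140, 52, 141, 122, 5, 59, 162, 164, 175, 229, 0, 147, 146, 35]
  RV := [[0, 0, 0, 0, 0, 0, 1, 0], [-2, -3, -4, -6, -5, -4, -3, -1], [0, 1, 1, 2, 1, 1, 1, 0], [-1, -1, -2, -3, -2, -1, -1, 0], [0, 0, 0, 0, 1, 0, 0, 0], [0, 0, 1, 1, 1, 0, 0, 0], [0, 1, 1, 2, 2, 1, 0, 0], [1, 2, 3, 4, 4, 3, 2, 1], [0, 0, 0, 1, 0, 0, 0, 0], [0, 0, 0, 0, 0, 1, 0, 0], [1, 1, 1, 1, 1, 1, 1, 0], [0, -1, -1, -2, -2, -2, -1, 0], [0, 0, 1, 0, 0, 0, 0, 0], [0, 1, 0, 1, 1, 0, 0, 0], [0, 0, 1, 1, 1, 1, 1, 1], [-1, -1, -2, -2, -1, -1, -1, -1], [0, 1, 0, 0, 0, 0, 0, 0], [0, 0, 0, 0, 0, 0, 1, 1], [-2, -3, -4, -5, -4, -3, -2, -1], [-1, -1, -1, -2, -2, -1, -1, -1], [1,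 0, 0, 0, 0, 0, 0, 0], [1, 0, 1, 1, 0, 0, 0, 0], [1, 1, 1, 2, 1, 1, 0, 0], [2, 2, 3, 4, 3, 3, 2, 1], [-2, -3, -4, -6, -5, -4, -3, -2], [0, 1, 1, 1, 0, 0, 0, 0], [0, 1, 0, 1, 1, 1, 1, 1], [-1, -2, -2, -3, -2, -1, 0, 0]]

/-- the certificates of case 7 -/
def C7 : List Crt := [.eps [0, 0, 1, 1, 0, 1, 0, 0],
  .eps [0, 0, 1, 1, 0, 1, 0, 0],
  .eps [0, 0, 1, 1, 0, 1, 0, 0],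
  .eps [0, 0, 1, 1, 0, 1, 0, 0],
  .eps [1, 1, 0, 0, 1, 0, 1, 0],
  .unq 0 1 2 [4, 69, -4, 12, -65, 11, 10, -31],
  .unq 4 9 127 [30, -6, 24, 3, 1, 1, -36, 30],
  .dep [1, 1, 1, 1, 1, 1, 1, 1, 2, 2, 2, 2],
  .eps [1, 1, 0, 0, 1, 0, 1, 0],
  .unq 0 1 2 [-27, 2, 2, 9, -3, -2, 1, 5],
  .unq 12 13 148 [-15, -10, 2, -10, 23, 15, 0, -15],
  .unq 0 1 2 [-151, -15, 22, -30, 59, 22, 5, 37],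
  .eps [1, 1, 0, 0, 1, 0, 1, 0],
  .dep [0, 0, 0, 0, 1, 1, 1, 1, 1, 1, 1, 1],
  .dep [0, 0, 0, 0, 1, 1, 1, 1, 1, 1, 1, 1],
  .dep [0, 0, 0, 0, 0, 0, 0, 0, 1, 1, 1, 1, 1, 1, 1, 1],
  .eps [0, 0, 1, 1, 0, 1, 0, 0],
  .eps [0, 0, 1, 1, 0, 1, 0, 0],
  .eps [0, 0, 1, 1, 0, 1, 0, 0],
  .eps [0, 0, 1, 1, 0, 1, 0, 0],
  .unq 8 10 176 [4, 1, -4, 1, -6, 2, 3, -2],
  .unq 0 1 2 [10, 23, -20, 12, -30, 13, 4, 1],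
  .dep [1, 1, 1, 1, 2, 2, 2, 2, 1, 1, 1, 1],
  .dep [1, 1, 1, 1, 1, 1, 1, 1, 2, 2, 2, 2, 0, 0, 0, 0],
  .unq 12 13 148 [-8, 1, 1, -1, 1, -1, 1, 3],
  .unq 0 1 2 [-28, 3, 3, 7, -3, -2, 3, 5],
  .unq 12 18 6 [-29, 1, 1, -12, 17, 11, 5, -1],
  .unq 0 1 2 [-60, 2, 7, -13, 22, 8, 2, 14],
  .dep [1, 1, 1, 1, 1, 1, 1, 1, 0, 0, 0, 0],
  .dep [0, 0, 0, 0, 1, 1, 1, 1, 1, 1, 1, 1, 0, 0, 0, 0],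
  .dep [0, 0, 0, 0, 1, 1, 1, 1, 1, 1, 1, 1, 0, 0, 0, 0],
  .dep [0, 0, 0, 0, 0, 0, 0, 0, 1, 1, 1, 1, 1, 1, 1, 1, 0, 0, 0, 0],
  .eps [0, 0, 1, 1, 0, 1, 0, 0],
  .eps [0, 0, 1, 1, 0, 1, 0, 0],
  .eps [0, 0, 1, 1, 0, 1, 0, 0],
  .eps [0, 0, 1, 1, 0, 1, 0, 0],
  .unq 8 10 176 [8, -4, 5, 1, -7, 2, -4, 9],
  .unq 0 1 2 [46, 30, 44, 42, -188, 62, 13, 32],
  .unq 4 9 127 [30, -6, 24, 3, 1, 1, -36, 30],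
  .dep [1, 1, 1, 1, 1, 1, 1, 1, 2, 2, 2, 2, 0, 0, 0, 0],
  .unq 12 13 148 [2, -7, 1, 0, 8, 8, -2, -12],
  .dep [1, 1, 1, 1, 2, 2, 2, 2, 1, 1, 1, 1],
  .unq 12 13 148 [6, -20, 4, -2, 25, 24, -6, -36],
  .dep [2, 2, 2, 2, 1, 1, 1, 1, 0, 0, 0, 0, 1, 1, 1, 1],
  .dep [1, 1, 1, 1, 1, 1, 1, 1, 0, 0, 0, 0],
  .dep [0, 0, 0, 0, 1, 1, 1, 1, 1, 1, 1, 1, 0, 0, 0, 0],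
  .dep [0, 0, 0, 0, 1, 1, 1, 1, 1, 1, 1, 1, 0, 0, 0, 0],
  .dep [0, 0, 0, 0, 0, 0, 0, 0, 1, 1, 1, 1, 1, 1, 1, 1, 0, 0, 0, 0],
  .eps [0, 0, 1, 1, 0, 1, 0, 0],
  .eps [0, 0, 1, 1, 0, 1, 0, 0],
  .eps [0, 0, 1, 1, 0, 1, 0, 0],
  .eps [0, 0, 1, 1, 0, 1, 0, 0],
  .unq 16 21 169 [53, 2, -52, 2, -69, 81, 15, 33],
  .unq 0 1 2 [16, 3, -6, 17, -58, 39, 2, 6],
  .dep [1, 1, 1, 1, 2, 2, 2, 2, 1, 1, 1, 1, 0, 0, 0, 0],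
  .dep [1, 1, 1, 1, 1, 1, 1, 1, 2, 2, 2, 2, 0, 0, 0, 0, 0, 0, 0, 0],
  .dep [2, 2, 2, 2, 1, 1, 1, 1, 1, 1, 1, 1],
  .dep [1, 1, 1, 1, 2, 2, 2, 2, 0, 0, 0, 0, 1, 1, 1, 1],
  .dep [1, 1, 1, 1, 0, 0, 0, 0, 2, 2, 2, 2, 1, 1, 1, 1],
  .dep [2, 2, 2, 2, 1, 1, 1, 1, 0, 0, 0, 0, 0, 0, 0, 0, 1, 1, 1, 1],
  .dep [1, 1, 1, 1, 1, 1, 1, 1, 0, 0, 0, 0, 0, 0, 0, 0],
  .dep [0, 0, 0, 0, 1, 1, 1, 1, 1, 1, 1, 1, 0, 0, 0, 0, 0, 0, 0, 0],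
  .dep [0, 0, 0, 0, 1, 1, 1, 1, 1, 1, 1, 1, 0, 0, 0, 0, 0, 0, 0, 0],
  .dep [0, 0, 0, 0, 0, 0, 0, 0, 1, 1, 1, 1, 1, 1, 1, 1, 0, 0, 0, 0, 0, 0, 0, 0],
  .eps [0, 0, 1, 1, 0, 1, 0, 0],
  .eps [0, 0, 1, 1, 0, 1, 0, 0],
  .eps [0, 0, 1, 1, 0, 1, 0, 0],
  .eps [0, 0, 1, 1, 0, 1, 0, 0],
  .unq 8 10 176 [2, 5, -5, 1, -6, 1, 3, -2],
  .unq 0 1 2 [7, 18, -5, 8, -43, 22, 7, 0],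
  .dep [1, 1, 1, 1, 2, 2, 2, 2, 1, 1, 1, 1],
  .dep [1, 1, 1, 1, 1, 1, 1, 1, 2, 2, 2, 2, 0, 0, 0, 0],
  .unq 12 13 148 [-24, 2, 2, 2, -1, -6, 3, 12],
  .unq 0 1 2 [-30, 1, 2, 4, 1, 3, 2, -1],
  .unq 12 26 151 [-123, -4, 2, 8, 35, 26, 20, -82],
  .unq 0 1 2 [-178, 3, 64, -54, 71, 10, 5, -2],
  .dep [1, 1, 1, 1, 1, 1, 1, 1, 0, 0, 0, 0],
  .dep [0, 0, 0, 0, 1, 1, 1, 1, 1, 1, 1, 1, 0, 0, 0, 0],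
  .dep [0, 0, 0, 0, 1, 1, 1, 1, 1, 1, 1, 1, 0, 0, 0, 0],
  .dep [0, 0, 0, 0, 0, 0, 0, 0, 1, 1, 1, 1, 1, 1, 1, 1, 0, 0, 0, 0],
  .eps [0, 0, 1, 1, 0, 1, 0, 0],
  .eps [0, 0, 1, 1, 0, 1, 0, 0],
  .eps [0, 0, 1, 1, 0, 1, 0, 0],
  .eps [0, 0, 1, 1, 0, 1, 0, 0],
  .unq 24 17 2 [11, 14, -13, 7, -25, 11, 8, -3],
  .unq 0 9 124 [0, 27, -12, 9, -39, 10, 16, -6],
  .dep [1, 1, 1, 1, 2, 2, 2, 2, 1, 1, 1, 1, 0, 0, 0, 0],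
  .dep [1, 1, 1, 1, 1, 1, 1, 1, 2, 2, 2, 2, 0, 0, 0, 0, 0, 0, 0, 0],
  .unq 12 13 148 [-24, 2, 2, 2, -1, -6, 3, 12],
  .unq 12 13 148 [-39, 5, 2, 14, -16, -6, 15, 0],
  .unq 24 17 2 [-163, 21, 64, -69, 71, 1, 38, -29],
  .skip,
  .dep [1, 1, 1, 1, 1, 1, 1, 1, 0, 0, 0, 0, 0, 0, 0, 0],
  .dep [0, 0, 0, 0, 1, 1, 1, 1, 1, 1, 1, 1, 0, 0, 0, 0, 0, 0, 0, 0],
  .dep [0, 0, 0, 0, 1, 1, 1, 1, 1, 1, 1, 1, 0, 0, 0, 0, 0, 0, 0, 0],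
  .dep [0, 0, 0, 0, 0, 0, 0, 0, 1, 1, 1, 1, 1, 1, 1, 1, 0, 0, 0, 0, 0, 0, 0, 0],
  .eps [0, 0, 1, 1, 0, 1, 0, 0],
  .eps [0, 0, 1, 1, 0, 1, 0, 0],
  .eps [0, 0, 1, 1, 0, 1, 0, 0],
  .eps [0, 0, 1, 1, 0, 1, 0, 0],
  .unq 20 25 169 [16, -14, 16, 10, -129, 111, 3, 30],
  .unq 0 1 2 [53, 51, -14, 27, -178, 127, 5, -2],
  .dep [1, 1, 1, 1, 2, 2, 2, 2, 0, 0, 0, 0, 1, 1, 1, 1],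
  .dep [1, 1, 1, 1, 1, 1, 1, 1, 2, 2, 2, 2, 0, 0, 0, 0, 0, 0, 0, 0],
  .dep [2, 2, 2, 2, 1, 1, 1, 1, 1, 1, 1, 1],
  .dep [1, 1, 1, 1, 2, 2, 2, 2, 1, 1, 1, 1, 0, 0, 0, 0],
  .dep [1, 1, 1, 1, 0, 0, 0, 0, 1, 1, 1, 1, 2, 2, 2, 2],
  .dep [2, 2, 2, 2, 1, 1, 1, 1, 0, 0, 0, 0, 1, 1, 1, 1, 0, 0, 0, 0],
  .dep [1, 1, 1, 1, 1, 1, 1, 1, 0, 0, 0, 0, 0, 0, 0, 0],
  .dep [0, 0, 0, 0, 1, 1, 1, 1, 1, 1, 1, 1, 0, 0, 0, 0, 0, 0, 0, 0],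
  .dep [0, 0, 0, 0, 1, 1, 1, 1, 1, 1, 1, 1, 0, 0, 0, 0, 0, 0, 0, 0],
  .dep [0, 0, 0, 0, 0, 0, 0, 0, 1, 1, 1, 1, 1, 1, 1, 1, 0, 0, 0, 0, 0, 0, 0, 0],
  .eps [0, 0, 1, 1, 0, 1, 0, 0],
  .eps [0, 0, 1, 1, 0, 1, 0, 0],
  .eps [0, 0, 1, 1, 0, 1, 0, 0],
  .eps [0, 0, 1, 1, 0, 1, 0, 0],
  .unq 24 17 2 [25, 9, -12, 9, -50, 40, 4, -3],
  .unq 0 9 124 [30, 4, -11, 31, -57, 2, 3, 20],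
  .dep [1, 1, 1, 1, 2, 2, 2, 2, 1, 1, 1, 1, 0, 0, 0, 0, 0, 0, 0, 0],
  .dep [1, 1, 1, 1, 1, 1, 1, 1, 2, 2, 2, 2, 0, 0, 0, 0, 0, 0, 0, 0, 0, 0, 0, 0],
  .dep [2, 2, 2, 2, 1, 1, 1, 1, 1, 1, 1, 1, 0, 0, 0, 0],
  .dep [1, 1, 1, 1, 2, 2, 2, 2, 0, 0, 0, 0, 1, 1, 1, 1, 0, 0, 0, 0],
  .dep [1, 1, 1, 1, 0, 0, 0, 0, 2, 2, 2, 2, 1, 1, 1, 1, 0, 0, 0, 0],
  .dep [2, 2, 2, 2, 1, 1, 1, 1, 0, 0, 0, 0, 0, 0, 0, 0, 1, 1, 1, 1, 0, 0, 0, 0],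
  .dep [1, 1, 1, 1, 1, 1, 1, 1, 0, 0, 0, 0, 0, 0, 0, 0, 0, 0, 0, 0],
  .dep [0, 0, 0, 0, 1, 1, 1, 1, 1, 1, 1, 1, 0, 0, 0, 0, 0, 0, 0, 0, 0, 0, 0, 0],
  .dep [0, 0, 0, 0, 1, 1, 1, 1, 1, 1, 1, 1, 0, 0, 0, 0, 0, 0, 0, 0, 0, 0, 0, 0],
  .dep [0, 0, 0, 0, 0, 0, 0, 0, 1, 1, 1, 1, 1, 1, 1, 1, 0, 0, 0, 0, 0, 0, 0, 0, 0, 0, 0, 0]]

/-- the unit lists -/
def un (i : ℕ) : List ℤ := (List.range 8).map fun j => if j = i then 1 else 0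

/-- the checks of the geometry -/
def chkG (D : Dat) : Bool :=
  decide (D.Y.length = 8) && okw D.w && okD D &&
  ((List.range 28).all fun k => decide ((dt (YZ D.Y) (D.RV.getD k []) - 3 ^ (k % 4)) % 40 = 0)) &&
  ((List.range 240).all fun s => !([1, 3, 9, 27].contains (dt (YZ D.Y) (vl s) % 40)) || D.ix.contains s) &&
  ((List.range 28).all fun k => decide (k % 4 = 3) || ((List.range 8).all fun i =>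
    decide (dt (actW D.w (un i)) (D.RV.getD k []) = (D.RV.getD (k + 1) []).getD i 0))) &&
  ((List.range 8).all fun i => decide (((actW D.w (YZ D.Y)).getD i 0 - 3 * (YZ D.Y).getD i 0) % 40 = 0)) &&
  decide (dotN th8 D.Y < 40) && ((List.range 8).all fun i => decide (1 ≤ D.Y.getD i 0))

theorem g5 : chkG D5 = true := by decide +kernel

theorem g7 : chkG D7 = true := by decide +kernel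

theorem c5 : ((List.range 128).all fun m => chkC D5 m (C5.getD m .skip)) = true := by decide +kernel

theorem c7 : ((List.range 128).all fun m => (m == 91) || chkC D7 m (C7.getD m .skip)) = true := by decide +kernel

theorem s1 : chkT D7 91 12 18 24 14 6 [-194, 123, 18, -113, 128, -21, 16, 2] = true := by decide +kernel

theorem s2 : chkT D7 91 12 26 16 14 151 [-40, 4, 7, -6, 28, -26, 4, 0] = true := by decide +kernel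

theorem s3 : chkT D7 91 16 18 24 26 7 [-184, 11, 94, -82, 88, -9, 11, 1] = true := by decide +kernel

theorem s4 : ¬ (3 : ℤ) ∣ Ncf (D7.ix.getD 16 0) (D7.ix.getD 18 0) 7 * Ncf (D7.ix.getD 24 0) (D7.ix.getD 14 0) 6 *
    Ncf (D7.ix.getD 12 0) (D7.ix.getD 26 0) 151 +
  Ncf (D7.ix.getD 24 0) (D7.ix.getD 26 0) 7 * Ncf (D7.ix.getD 16 0) (D7.ix.getD 14 0) 151 *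
    Ncf (D7.ix.getD 12 0) (D7.ix.getD 18 0) 6 := by decide +kernel

end Cfsg.Agent.H288.E8L
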